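import Mathlib
import Cfsg.Agent.H73.FiM24.Data

/-!
Numeric certificates: orbits of the six translations, the neighbour counts, the exclusion of all but one
choice of signs and the pair labels.
-/

set_option autoImplicit false
set_option maxRecDepth 100000

namespace H73.FiM24

/-- The shift of an element by a translation. -/
def shiftOf (j x : ℕ) : ℕ :=
  ((if x.testBit 7 then stepTab.getD (4 * j) 0 else 0) ^^^
    (if x.testBit 8 then stepTab.getD (4 * j + 1) 0 else 0)) ^^^
  ((if x.testBit 9 then stepTab.getD (4 * j + 2) 0 else 0) ^^^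
    (if x.testBit 10 then stepTab.getD (4 * j + 3) 0 else 0))

/-- A translation. -/
def step (j x : ℕ) : ℕ := x ^^^ ((if x.testBit j then 64 else 0) ^^^ shiftOf j x)

/-- An orbit: `c < 2` the small ones. -/
def orb (m c : ℕ) : List ℕ := orbTab.getD (5 * m + c) []

/-- The element of an entry. -/
def el (t : ℕ) : ℕ := t % 2048

/-- The translation of an entry. -/
def via (t : ℕ) : ℕ := (t >>> 11) % 8

/-- The parent of an entry. -/
def par (t : ℕ) : ℕ := t >>> 14

/-- The root of an orbit. -/
def root (m c : ℕ) : ℕ := el ((orb m c).getD 0 0)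

/-- The positions in a coset. -/
def msk (a d : ℕ) : ℕ := maskTab.getD (2 * a + d) 0

/-- The sign of a coset. -/
def sgn (e a : ℕ) : ℕ :=
  if a = 0 ∨ a = 1 ∨ a = 2 ∨ a = 4 ∨ a = 8 then 0
  else (e >>> (if a = 3 then 0 else if a < 8 then a - 4 else a - 5)) % 2

/-- The set for a choice of signs. -/
def memT (e x : ℕ) : Bool := (msk (x / 128) (sgn e (x / 128))).testBit (x % 128)

/-- A neighbour count inside one coset. -/
def cnt1 (r a b : ℕ) : ℕ :=
  (List.range 128).countP fun w => a.testBit w && b.testBit ((r ^^^ w) % 128)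

/-- An entry of the table of neighbour counts. -/
def ct (m a dm da db : ℕ) : ℕ := (cntN >>> (8 * (((m * 16 + a) * 2 + dm) * 4 + 2 * da + db))) % 256

/-- The number of neighbours of the representative of a coset. -/
def nSum (e m : ℕ) : ℕ :=
  ((List.range 16).map fun a => ct m a (sgn e (m + 1)) (sgn e a) (sgn e ((m + 1) ^^^ a))).sum

theorem orb_ok : ∀ m < 15, ∀ c < 5, (orb m c).length = (if c < 2 then 16 else 32) ∧
    (∀ i < (orb m c).length, el ((orb m c).getD i 0) / 128 = m + 1 ∧
      (i = 0 ∨ (via ((orb m c).getD i 0) < 6 ∧ par ((orb m c).getD i 0) < i ∧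
        step (via ((orb m c).getD i 0)) (el ((orb m c).getD (par ((orb m c).getD i 0)) 0)) =
          el ((orb m c).getD i 0)))) ∧
    ((orb m c).map fun t => el t % 128).Nodup := by decide +kernel

theorem msk_orb : ∀ m < 15, ∀ d < 2, ∀ w < 128,
    (msk (m + 1) d).testBit w = ((orb m d).map fun t => el t % 128).contains w := by decide +kernel

theorem orb_cover : ∀ m < 15, ∀ w < 128,
    ((List.range 5).any fun c => ((orb m c).map fun t => el t % 128).contains w) = true := by
  decide +kernel

theorem orb_root : ∀ m < 15, root m 0 / 128 = m + 1 ∧ root m 1 = root m 0 ^^^ 64 ∧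
    ((m + 1 = 1 ∨ m + 1 = 2 ∨ m + 1 = 4 ∨ m + 1 = 8) → root m 0 = 128 * (m + 1)) := by decide +kernel

theorem cnt_ok : ∀ m < 15, ∀ a < 16, ∀ dm < 2, ∀ da < 2, ∀ db < 2,
    cnt1 (root m dm % 128) (msk a da) (msk ((m + 1) ^^^ a) db) = ct m a dm da db := by decide +kernel

theorem msk_zero : msk 0 1 = msk 0 0 ∧ (msk 0 0).testBit 1 = true := by decide +kernel

theorem cnt_zero : (∀ a < 16, cnt1 1 (msk a 1) (msk a 1) = cnt1 1 (msk a 0) (msk a 0)) ∧
    ((List.range 16).map fun a => cnt1 1 (msk a 0) (msk a 0)).sum = 44 := by decide +kernel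

/-- The first test leaves the listed candidates. -/
theorem cand_of_counts : ∀ e < 2048,
    ((List.range 15).all fun m => nSum e m == 44) = true → e ∈ candSigns := by decide +kernel

/-- The neighbours. -/
def nbrs (e t : ℕ) : List ℕ := (List.range 2048).filter fun s => memT e s && memT e (t ^^^ s)

/-- The number of adjacent ordered pairs of neighbours. -/
def pairCount (e t : ℕ) : ℕ :=
  ((nbrs e t).map fun a => (nbrs e t).countP fun b => memT e (a ^^^ b)).sum

/-- The signs that occur. -/
def goodSigns : ℕ := 1918

theorem eq_good : ∀ e ∈ candSigns, e = goodSigns ∨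
    pairCount e 1 ≠ pairCount e (root 0 (sgn e 1)) := by decide +kernel

/-- The label of a pair. -/
def labN (p q : ℕ) : ℕ := (labTabN >>> (12 * (24 * p + q))) % 4096

theorem lab_mem : ∀ p < 24, ∀ q < 24, labN p q < 2048 ∧ (p = q ∨ memT goodSigns (labN p q)) ∧
    (p = q → labN p q = 0) := by decide +kernel

theorem lab_add : ∀ p < 24, ∀ q < 24, ∀ r < 24, labN p q ^^^ labN q r = labN p r := by decide +kernel

theorem lab_inj : ((List.range 24).flatMap fun q => (List.range q).map fun p => labN p q).Nodup := by
  decide +kernel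

theorem lab_far : ((List.range 24).all fun p => (List.range p).all fun q => (List.range p).all fun r =>
    (List.range r).all fun s => r == q || s == q ||
      (!memT goodSigns (labN p q ^^^ labN r s) && labN p q ^^^ labN r s != 0)) = true := by
  decide +kernel

theorem card_good : ((List.range 2048).filter fun x => memT goodSigns x).length = 276 := by
  decide +kernel

end H73.FiM24
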