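import Cfsg.Agent.H73.FiM24.Cert
import Cfsg.Agent.H59.Fischer.Elem
import Cfsg.Agent.H16.Fi24.Orbits

/-!
Binary coordinates on the subgroup of lifts in which the six translations act by fixed tables.
-/

set_option autoImplicit false
set_option maxRecDepth 100000

namespace H73.FiM24

open H16.Fi24 H59.Fi24

theorem split_bit (x k : ℕ) :
    (x % 2 ^ (k + 1)) = (x % 2 ^ k) ^^^ (if x.testBit k then 1 <<< k else 0) := by
  refine Nat.eq_of_testBit_eq fun i => ?_
  rcases lt_trichotomy i k with h | rfl | h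
  · cases x.testBit k <;>
      simp [Nat.testBit_xor, Nat.testBit_mod_two_pow, Nat.one_shiftLeft,
        h, h.ne', Nat.lt_succ_of_lt h]
  · cases hx : x.testBit i <;>
      simp [Nat.testBit_xor, Nat.testBit_mod_two_pow, Nat.one_shiftLeft, hx]
  · cases x.testBit k <;>
      simp [Nat.testBit_xor, Nat.testBit_mod_two_pow, Nat.one_shiftLeft, h.ne,
        show ¬i < k by omega, show ¬i < k + 1 by omega]

/-- Two maps respecting exclusive or agree when they agree on the bits. -/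
theorem ext_bits {α : Type*} (op : α → α → α) {F F' : ℕ → α} {n : ℕ}
    (h0 : F 0 = F' 0) (hF : ∀ x < 2 ^ n, ∀ y < 2 ^ n, F (x ^^^ y) = op (F x) (F y))
    (hF' : ∀ x < 2 ^ n, ∀ y < 2 ^ n, F' (x ^^^ y) = op (F' x) (F' y))
    (hb : ∀ i < n, F (1 <<< i) = F' (1 <<< i)) : ∀ x < 2 ^ n, F x = F' x := by
  intro x hx
  have key : ∀ k ≤ n, F (x % 2 ^ k) = F' (x % 2 ^ k) := by
    intro k hk
    induction k with
    | zero => simpa [Nat.mod_one] using h0
    | succ k ih =>
      have hpk : 2 ^ k < 2 ^ n := Nat.pow_lt_pow_right (by norm_num) (by omega)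
      have h1 : x % 2 ^ k < 2 ^ n := lt_trans (Nat.mod_lt _ (Nat.two_pow_pos k)) hpk
      have h2 : (if x.testBit k then 1 <<< k else 0) < 2 ^ n := by
        split
        · rwa [Nat.one_shiftLeft]
        · exact Nat.two_pow_pos n
      rw [split_bit, hF _ h1 _ h2, hF' _ h1 _ h2, ih (by omega)]
      split
      · rw [hb k (by omega)]
      · rw [h0]
  have := key n le_rfl
  rwa [Nat.mod_eq_of_lt hx] at this

section Th

variable {H : Type*} [Group H]

/-- The product of the selected elements. -/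
def th (e : ℕ → H) : ℕ → ℕ → H
  | 0, _ => 1
  | n + 1, x => if x.testBit n then th e n x * e n else th e n x

theorem th_zero (e : ℕ → H) (n : ℕ) : th e n 0 = 1 := by
  induction n with
  | zero => rfl
  | succ n ih => simp [th, ih]

theorem th_congr {e e' : ℕ → H} {n : ℕ} (h : ∀ i < n, e i = e' i) (x : ℕ) : th e n x = th e' n x := by
  induction n with
  | zero => rfl
  | succ n ih => simp only [th, ih fun i hi => h i (by omega), h n (by omega)]

theorem th_trunc (e : ℕ → H) {x n : ℕ} (hx : x < 2 ^ n) : ∀ m, n ≤ m → th e m x = th e n x := by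
  intro m hm
  induction m, hm using Nat.le_induction with
  | base => rfl
  | succ m hm ih =>
    have : x.testBit m = false := Nat.testBit_lt_two_pow
      (lt_of_lt_of_le hx (Nat.pow_le_pow_right (by norm_num) hm))
    rw [th, this]
    simpa using ih

theorem th_bit (e : ℕ → H) {i : ℕ} : ∀ n, i < n → th e n (1 <<< i) = e i := by
  intro n hn
  rw [th_trunc e (x := 1 <<< i) (n := i + 1) (by rw [Nat.one_shiftLeft, pow_succ]; have := Nat.two_pow_pos i; omega) n hn]
  rw [th, Nat.one_shiftLeft, Nat.testBit_two_pow_self, if_pos rfl]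
  have hz : ∀ k ≤ i, th e k (2 ^ i) = 1 := by
    intro k hk
    induction k with
    | zero => rfl
    | succ k ih =>
      rw [th, Nat.testBit_two_pow_of_ne (show i ≠ k by omega)]
      simpa using ih (by omega)
  rw [hz i le_rfl, one_mul]

theorem th_mem {e : ℕ → H} {n : ℕ} (S : Subgroup H) (h : ∀ i < n, e i ∈ S) (x : ℕ) : th e n x ∈ S := by
  induction n with
  | zero => exact one_mem S
  | succ n ih =>
    rw [th]
    split
    · exact mul_mem (ih fun i hi => h i (by omega)) (h n (by omega))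
    · exact ih fun i hi => h i (by omega)

theorem th_mul {e : ℕ → H} {n : ℕ} (S : Subgroup H) (h : ∀ i < n, e i ∈ S)
    (hsq : ∀ a ∈ S, a * a = 1) (hc : ∀ a ∈ S, ∀ b ∈ S, a * b = b * a) (x y : ℕ) :
    th e n (x ^^^ y) = th e n x * th e n y := by
  induction n with
  | zero => exact (one_mul 1).symm
  | succ n ih =>
    have h' : ∀ i < n, e i ∈ S := fun i hi => h i (by omega)
    have he := h n (by omega)
    have hy := th_mem S h' y
    simp only [th, Nat.testBit_xor, ih h']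
    cases x.testBit n <;> cases y.testBit n <;> simp only [Bool.false_xor, Bool.true_xor, Bool.not_false,
      Bool.not_true, Bool.false_eq_true, if_true, if_false]
    · group
    · rw [mul_assoc, hc _ hy _ he, ← mul_assoc]
    · calc th e n x * th e n y = th e n x * (th e n y * (e n * e n)) := by rw [hsq _ he, mul_one]
        _ = th e n x * (th e n y * e n * e n) := by rw [mul_assoc (th e n y)]
        _ = th e n x * (e n * th e n y * e n) := by rw [hc _ hy _ he]
        _ = th e n x * e n * (th e n y * e n) := by group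

end Th

/-- A vector of the fixed space from its six coordinates. -/
def uval (x : ℕ) : ℕ :=
  (((if x.testBit 0 then 5 else 0) ^^^ (if x.testBit 1 then 10 else 0)) ^^^
    ((if x.testBit 2 then 80 else 0) ^^^ (if x.testBit 3 then 160 else 0))) ^^^
  ((if x.testBit 4 then 1280 else 0) ^^^ (if x.testBit 5 then 2560 else 0))

theorem ite_xor (p q : Bool) (c : ℕ) :
    (if (p ^^ q) then c else 0) = (if p then c else 0) ^^^ (if q then c else 0) := by
  cases p <;> cases q <;> simp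

theorem uval_xor (x y : ℕ) : uval (x ^^^ y) = uval x ^^^ uval y := by
  simp only [uval, Nat.testBit_xor, ite_xor]
  ac_rfl

theorem shiftOf_xor (j x y : ℕ) : shiftOf j (x ^^^ y) = shiftOf j x ^^^ shiftOf j y := by
  simp only [shiftOf, Nat.testBit_xor, ite_xor]
  ac_rfl

theorem step_xor (j x y : ℕ) : step j (x ^^^ y) = step j x ^^^ step j y := by
  simp only [step, Nat.testBit_xor, ite_xor, shiftOf_xor]
  ac_rfl

theorem uval_ok : (∀ i < 6, uval (1 <<< i) = uB.getD i 0) ∧ uval 64 = 0 ∧ uval 0 = 0 := by decide +kernel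

theorem shift_ok : ∀ j < 6, ∀ k < 4, stepTab.getD (4 * j + k) 0 < 128 ∧
    appN (gA.getD k 0) (yB.getD j 0) ^^^ yB.getD j 0 = uval (stepTab.getD (4 * j + k) 0) ∧
    step j (1 <<< (7 + k)) = 1 <<< (7 + k) ^^^ stepTab.getD (4 * j + k) 0 := by decide +kernel

theorem step_low : ∀ j < 6, ∀ i < 7, step j (1 <<< i) = 1 <<< i ^^^ (if i = j then 64 else 0) ∧
    step j (1 <<< i) < 128 := by decide +kernel

theorem step_bnd : ∀ j < 6, ∀ i < 11, step j (1 <<< i) < 2048 := by decide +kernel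

theorem step_lt {j x : ℕ} (hj : j < 6) (hx : x < 2048) : step j x < 2048 := by
  have hs : ∀ y, shiftOf j y < 2 ^ 11 := by
    intro y
    have h : ∀ k < 4, (if y.testBit (7 + k) then stepTab.getD (4 * j + k) 0 else 0) < 2 ^ 11 := by
      intro k hk
      split
      · exact lt_trans (shift_ok j hj k hk).1 (by norm_num)
      · norm_num
    exact Nat.xor_lt_two_pow (Nat.xor_lt_two_pow (h 0 (by norm_num)) (h 1 (by norm_num)))
      (Nat.xor_lt_two_pow (h 2 (by norm_num)) (h 3 (by norm_num)))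
  exact Nat.xor_lt_two_pow (n := 11) hx (Nat.xor_lt_two_pow (by split <;> norm_num) (hs x))

/-- Six signs as a mask. -/
def mask6 (b0 b1 b2 b3 b4 b5 : Bool) : ℕ :=
  (((if b0 then 1 else 0) ^^^ (if b1 then 2 else 0)) ^^^ ((if b2 then 4 else 0) ^^^ (if b3 then 8 else 0))) ^^^
      ((if b4 then 16 else 0) ^^^ (if b5 then 32 else 0))

theorem mask6_ok : ∀ b0 b1 b2 b3 b4 b5 : Bool, ∀ j : Fin 6,
    step j.val (mask6 b0 b1 b2 b3 b4 b5) = mask6 b0 b1 b2 b3 b4 b5 ^^^ (if ![b0, b1, b2, b3, b4, b5] j then 64 else 0) ∧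
      mask6 b0 b1 b2 b3 b4 b5 < 2 ^ 7 := by decide +kernel

/-- The code of a product of the four outer generators. -/
def kp : ℕ → ℕ → ℕ
  | 0, _ => one
  | n + 1, m => if m.testBit n then kmul (kp n m) (gA.getD n 0) else kp n m

theorem kp_LA : ∀ a < 16, ∃ m < 16, kp 4 m = LA.getD a 0 := by decide +kernel

theorem gA_ok : ∀ k < 4, gA.getD k 0 ∈ LA := by decide +kernel

universe u

variable {G : Type u} [Group G] {z : G} {Q : Subgroup (Subgroup.centralizer ({z} : Set G))}

/-- Coordinates on the subgroup of lifts. -/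
structure Frame [Finite G] (D : Model z Q) where
  e : ℕ → Subgroup.centralizer ({z} : Set G)
  y : ℕ → Subgroup.centralizer ({z} : Set G)
  u_spec : ∀ i < 6, e i ∈ Q ∧ D.Φ (e i) = dec (uB.getD i 0)
  z_spec : (e 6 : G) = z
  a_spec : ∀ k < 4, e (7 + k) ∈ CC D ∧ key (D.ρ (e (7 + k))) = gA.getD k 0
  y_spec : ∀ j < 6, y j ∈ Q ∧ D.Φ (y j) = dec (yB.getD j 0)
  conj : ∀ j < 6, ∀ k < 4,
    y j * e (7 + k) * (y j)⁻¹ = e (7 + k) * th e 7 (stepTab.getD (4 * j + k) 0)

section Base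

variable [Finite G] (D : Model z Q)

/-- The hypotheses on the seven inner coordinates. -/
def Inner (e y : ℕ → Subgroup.centralizer ({z} : Set G)) : Prop :=
  (∀ i < 6, e i ∈ Q ∧ D.Φ (e i) = dec (uB.getD i 0)) ∧ (e 6 : G) = z ∧
    ∀ j < 6, y j ∈ Q ∧ D.Φ (y j) = dec (yB.getD j 0)

variable {D} {e y : ℕ → Subgroup.centralizer ({z} : Set G)}

theorem zc_coe : ((zc z : Subgroup.centralizer ({z} : Set G)) : G) = z := rfl

theorem Inner.z_eq (h : Inner D e y) : e 6 = zc z := Subtype.ext h.2.1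

theorem zc_Wt [Q.Normal] : zc z ∈ Wt D :=
  ⟨D.zc_mem, by rw [(D.eq_zero _ D.zc_mem).2 (Or.inr rfl)]; exact inU_zero⟩

theorem Inner.mem_Wt [Q.Normal] (h : Inner D e y) : ∀ i < 7, e i ∈ Wt D := by
  intro i hi
  rcases Nat.lt_or_ge i 6 with hi' | hi'
  · exact ⟨(h.1 i hi').1, (h.1 i hi').2 ▸ (dual_U i hi').1⟩
  · rw [show i = 6 by omega, h.z_eq]
    exact zc_Wt

theorem Inner.th_Wt [Q.Normal] (h : Inner D e y) (x : ℕ) : th e 7 x ∈ Wt D := th_mem _ h.mem_Wt x

theorem Inner.th_mul [Q.Normal] (h : Inner D e y) (x x' : ℕ) :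
    th e 7 (x ^^^ x') = th e 7 x * th e 7 x' :=
  FiM24.th_mul (Wt D) h.mem_Wt (fun _ ha => Wt_sq D ha) (fun _ ha _ hb => Wt_comm D ha hb) x x'

theorem Inner.phi [Q.Normal] (h : Inner D e y) : ∀ x < 2 ^ 7, D.Φ (th e 7 x) = dec (uval x) := by
  refine ext_bits (· + ·) ?_ (fun a _ b _ => ?_) (fun a _ b _ => ?_) fun i hi => ?_
  · rw [th_zero, phi_one D, uval_ok.2.2, H59.Fi24.dec_zero]
  · rw [h.th_mul, D.map_mul _ (h.th_Wt a).1 _ (h.th_Wt b).1]
  · rw [uval_xor, H59.Fi24.dec_xor]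
  · rw [th_bit e 7 hi]
    rcases Nat.lt_or_ge i 6 with hi' | hi'
    · rw [(h.1 i hi').2, uval_ok.1 i hi']
    · rw [show i = 6 by omega, h.z_eq, show (1 : ℕ) <<< 6 = 64 from rfl, uval_ok.2.1,
        H59.Fi24.dec_zero]
      exact (D.eq_zero _ D.zc_mem).2 (Or.inr rfl)

theorem th_six (h : (e 6 : G) = z) : th e 7 64 = zc z := by
  rw [show (64 : ℕ) = 1 <<< 6 from rfl, th_bit e 7 (by norm_num)]
  exact Subtype.ext h

theorem Inner.conj_y [Q.Normal] (h : Inner D e y) {j : ℕ} (hj : j < 6) :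
    ∀ x < 2 ^ 7, y j * th e 7 x * (y j)⁻¹ = th e 7 (step j x) := by
  refine ext_bits (· * ·) ?_ (fun a _ b _ => ?_) (fun a _ b _ => ?_) fun i hi => ?_
  · have h0 : step j 0 = 0 := by simp [step, shiftOf]
    rw [h0, th_zero, mul_one, mul_inv_cancel]
  · rw [h.th_mul]; group
  · rw [step_xor, h.th_mul]
  · have hs := (step_low j hj i hi).1
    rw [hs, h.th_mul, th_bit e 7 hi]
    have hmem := h.mem_Wt i hi
    have hΦ : D.Φ (y j * e i * (y j)⁻¹) = D.Φ (e i) := by
      rw [← D.conj (y j) _ hmem.1, rho_Q D (h.2.2 j hj).1]; rfl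
    rcases Nat.lt_or_ge i 6 with hi' | hi'
    · have hcomm := D.comm _ hmem.1 _ (h.2.2 j hj).1
      rw [(h.1 i hi').2, (h.2.2 j hj).2, (dual_U i hi').2 j hj] at hcomm
      by_cases hij : i = j
      · rw [if_pos hij, th_six h.2.1]
        rw [if_pos hij] at hcomm
        rcases D.eq_or_mul (Subgroup.Normal.conj_mem inferInstance _ hmem.1 (y j)) hmem.1 hΦ with e' | e'
        · exact absurd (hcomm.1 (mul_inv_eq_iff_eq_mul.1 (Subtype.ext e')).symm) (by decide)
        · exact Subtype.ext e'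
      · rw [if_neg hij, th_zero, mul_one]
        rw [if_neg hij] at hcomm
        exact mul_inv_eq_iff_eq_mul.2 (hcomm.2 rfl).symm
    · have hij : i ≠ j := by omega
      rw [if_neg hij, th_zero, mul_one, show i = 6 by omega, h.z_eq]
      exact mul_inv_eq_iff_eq_mul.2 (zc_comm (y j))

end Base

section Exists

variable [Finite G] [Q.Normal] (D : Model z Q)

theorem nonempty_frame (hz : orderOf z = 2) : Nonempty (Frame D) := by
  classical
  choose u hu hu' using fun i => D.surj (dec (uB.getD i 0))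
  choose y hy hy' using fun j => D.surj (dec (yB.getD j 0))
  obtain ⟨hsq, hcomm⟩ := elem_CC D hz
  have hlift : ∀ k : Fin 4, ∃ a ∈ CC D, key (D.ρ a) = gA.getD k.val 0 := by
    intro k
    obtain ⟨p, hp, -, hk⟩ := exists_four certA (gA_ok k.val k.2)
    obtain ⟨a, ha, rfl⟩ := exists_CC D hz hp
    exact ⟨a, ha, hk⟩
  choose a ha ha' using hlift
  let e₀ : ℕ → Subgroup.centralizer ({z} : Set G) := fun i => if i < 6 then u i else zc z
  have hin : Inner D e₀ y :=
    ⟨fun i hi => by simp only [e₀, if_pos hi]; exact ⟨hu i, hu' i⟩, rfl, fun j _ => ⟨hy j, hy' j⟩⟩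
  have hWC : ∀ w ∈ Wt D, w ∈ CC D := fun w hw => ((CC_inf_Q D).ge hw).1
  -- the two possibilities
  have hcase : ∀ j < 6, ∀ k : Fin 4,
      y j * a k * (y j)⁻¹ = a k * th e₀ 7 (stepTab.getD (4 * j + k.val) 0) ∨
      y j * a k * (y j)⁻¹ = a k * th e₀ 7 (stepTab.getD (4 * j + k.val) 0) * zc z := by
    intro j hj k
    have hρy := rho_Q D (hy j)
    have hmem : y j * a k * (y j)⁻¹ ∈ CC D := by
      refine conj_CC D (fun v hv => ?_) (fun b hb => ?_) (ha k)
      · rw [map_inv, hρy, inv_one]; exact hv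
      · rw [hρy, one_mul, inv_one, mul_one]; exact hb
    set q := (a k)⁻¹ * (y j * a k * (y j)⁻¹) with hq
    have hinv : (a k)⁻¹ = a k := inv_eq_of_mul_eq_one_right (hsq _ (ha k))
    have hqW : q ∈ Wt D := (CC_inf_Q D).le ⟨mul_mem ((CC D).inv_mem (ha k)) hmem, mem_Q_of_rho D (by
      rw [map_mul, map_mul, map_mul, map_inv, map_inv, hρy, one_mul, inv_one, mul_one,
        inv_mul_cancel])⟩
    obtain ⟨hst, hcode, -⟩ := shift_ok j hj k.val k.2
    have hΦ : D.Φ q = D.Φ (th e₀ 7 (stepTab.getD (4 * j + k.val) 0)) := by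
      rw [hin.phi _ hst, ← hcode, H59.Fi24.dec_xor,
        show q = (a k * y j * (a k)⁻¹) * (y j)⁻¹ by rw [hq]; simp only [hinv]; group]
      rw [D.map_mul _ (Subgroup.Normal.conj_mem inferInstance _ (hy j) (a k)) _ (inv_mem (hy j)),
        phi_inv D (hy j), ← D.conj _ _ (hy j), hy' j]
      congr 1
      rw [← dec_appN_key (isUni_K0 ((mem_CC D).1 (ha k)).1.1), ha',
        H59.Fi24.code_dec ((show ∀ j < 6, yB.getD j 0 < 4096 by decide) j hj)]
    have hqa : y j * a k * (y j)⁻¹ = a k * q := by rw [hq, mul_inv_cancel_left]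
    rcases D.eq_or_mul hqW.1 (hin.th_Wt _).1 hΦ with h | h
    · left
      rw [hqa, Subtype.ext h]
    · right
      rw [hqa, (Subtype.ext h : q = th e₀ 7 _ * zc z), mul_assoc]
  let bad : ℕ → Fin 4 → Bool := fun j k =>
    decide (y j * a k * (y j)⁻¹ ≠ a k * th e₀ 7 (stepTab.getD (4 * j + k.val) 0))
  let mk : Fin 4 → ℕ := fun k => mask6 (bad 0 k) (bad 1 k) (bad 2 k) (bad 3 k) (bad 4 k) (bad 5 k)
  have hmk : ∀ j < 6, ∀ k, step j (mk k) = mk k ^^^ (if bad j k then 64 else 0) ∧ mk k < 2 ^ 7 := by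
    intro j hj k
    have h := mask6_ok (bad 0 k) (bad 1 k) (bad 2 k) (bad 3 k) (bad 4 k) (bad 5 k) ⟨j, hj⟩
    interval_cases j <;> exact h
  let e₁ : ℕ → Subgroup.centralizer ({z} : Set G) := fun i =>
    if h : 7 ≤ i ∧ i < 11 then a ⟨i - 7, by omega⟩ * th e₀ 7 (mk ⟨i - 7, by omega⟩) else e₀ i
  have he₁ : ∀ k : Fin 4, e₁ (7 + k.val) = a k * th e₀ 7 (mk k) := by
    intro k
    simp only [e₁, dif_pos (show 7 ≤ 7 + k.val ∧ 7 + k.val < 11 by omega), Nat.add_sub_cancel_left]
  have hlow : ∀ i < 7, e₁ i = e₀ i := fun i hi => by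
    simp only [e₁, dif_neg (show ¬(7 ≤ i ∧ i < 11) by omega)]
  refine ⟨⟨e₁, y, fun i hi => by rw [hlow i (by omega)]; exact hin.1 i hi, by rw [hlow 6 (by norm_num)]; rfl,
    fun k hk => ?_, fun j _ => ⟨hy j, hy' j⟩, fun j hj k hk => ?_⟩⟩
  · have := he₁ ⟨k, hk⟩
    simp only at this
    rw [this]
    exact ⟨mul_mem (ha _) (hWC _ (hin.th_Wt _)), by rw [map_mul, rho_Q D (hin.th_Wt _).1, mul_one, ha']⟩
  · have := he₁ ⟨k, hk⟩
    simp only at this
    rw [this, th_congr hlow]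
    set st := stepTab.getD (4 * j + k) 0
    set K : Fin 4 := ⟨k, hk⟩
    have hconj : y j * th e₀ 7 (mk K) * (y j)⁻¹ = th e₀ 7 (mk K) * (if bad j K then zc z else 1) := by
      rw [hin.conj_y hj _ (hmk j hj K).2, (hmk j hj K).1, hin.th_mul]
      split
      · rw [th_six hin.2.1]
      · rw [th_zero]
    have hsplit : y j * (a K * th e₀ 7 (mk K)) * (y j)⁻¹ =
        (y j * a K * (y j)⁻¹) * (y j * th e₀ 7 (mk K) * (y j)⁻¹) := by group
    have hW : ∀ w ∈ Wt D, ∀ w' ∈ Wt D, w * w' = w' * w := fun _ h _ h' => Wt_comm D h h'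
    have hm := hin.th_Wt (mk K); have hs := hin.th_Wt st
    rw [hsplit, hconj]
    rcases hcase j hj K with h | h
    · have hb : bad j K = false := by simp only [bad, h, ne_eq, not_true_eq_false, decide_false]
      rw [h, hb, if_neg Bool.false_ne_true, mul_one, mul_assoc, hW _ hs _ hm, ← mul_assoc]
    · by_cases h' : y j * a K * (y j)⁻¹ = a K * th e₀ 7 st
      · have hb : bad j K = false := by simp only [bad, st] at h' ⊢; simp [h', K]
        rw [h', hb, if_neg Bool.false_ne_true, mul_one, mul_assoc, hW _ hs _ hm, ← mul_assoc]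
      · have hb : bad j K = true := decide_eq_true h'
        rw [h, hb, if_pos rfl]
        calc a K * th e₀ 7 st * zc z * (th e₀ 7 (mk K) * zc z) =
              a K * (th e₀ 7 st * ((zc z * th e₀ 7 (mk K)) * zc z)) := by simp only [mul_assoc]
          _ = a K * (th e₀ 7 st * (th e₀ 7 (mk K) * (zc z * zc z))) := by
            rw [hW _ zc_Wt _ hm, mul_assoc]
          _ = _ := by rw [Wt_sq D zc_Wt, mul_one, hW _ hs _ hm, ← mul_assoc]

end Exists

namespace Frame

variable [Finite G] [Q.Normal] {D : Model z Q} (F : Frame D)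

/-- The element with given coordinates. -/
def θ (x : ℕ) : Subgroup.centralizer ({z} : Set G) := th F.e 11 x

theorem inner : Inner D F.e F.y := ⟨F.u_spec, F.z_spec, F.y_spec⟩

theorem e_mem (i : ℕ) (hi : i < 11) : F.e i ∈ CC D := by
  rcases Nat.lt_or_ge i 7 with h | h
  · exact ((CC_inf_Q D).ge (F.inner.mem_Wt i h)).1
  · obtain ⟨k, rfl⟩ := Nat.exists_eq_add_of_le h
    exact (F.a_spec k (by omega)).1

theorem θ_mem (x : ℕ) : F.θ x ∈ CC D := th_mem _ F.e_mem x

theorem θ_mul (hz : orderOf z = 2) (x y : ℕ) : F.θ (x ^^^ y) = F.θ x * F.θ y :=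
  th_mul (CC D) F.e_mem (elem_CC D hz).1 (elem_CC D hz).2 x y

theorem θ_low {x : ℕ} (hx : x < 2 ^ 7) : F.θ x = th F.e 7 x := th_trunc F.e hx 11 (by norm_num)

theorem θ_phi {x : ℕ} (hx : x < 2 ^ 7) : F.θ x ∈ Wt D ∧ D.Φ (F.θ x) = dec (uval x) := by
  rw [F.θ_low hx]; exact ⟨F.inner.th_Wt x, F.inner.phi x hx⟩

theorem θ_sixtyfour : F.θ 64 = zc z := by rw [F.θ_low (by norm_num)]; exact th_six F.z_spec

theorem θ_zero : F.θ 0 = 1 := th_zero _ _

theorem key_θ (m : ℕ) : ∀ n ≤ 4, key (D.ρ (th F.e (7 + n) (m <<< 7))) = kp n m ∧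
    D.ρ (th F.e (7 + n) (m <<< 7)) ∈ K0 := by
  intro n hn
  induction n with
  | zero =>
    have : th F.e 7 (m <<< 7) = 1 := by
      have hk : ∀ k ≤ 7, th F.e k (m <<< 7) = 1 := by
        intro k hk
        induction k with
        | zero => rfl
        | succ k ih =>
          rw [th, show (m <<< 7).testBit k = false by simp [Nat.testBit_shiftLeft]; omega]
          simpa using ih (by omega)
      exact hk 7 le_rfl
    rw [this, map_one]
    exact ⟨key_one, one_mem _⟩
  | succ n ih =>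
    obtain ⟨h1, h2⟩ := ih (by omega)
    have hb : (m <<< 7).testBit (7 + n) = m.testBit n := by simp [Nat.testBit_shiftLeft]
    have ha := F.a_spec n (by omega)
    rw [← add_assoc, th, hb, kp]
    cases m.testBit n
    · simp only [Bool.false_eq_true, if_false]
      exact ⟨h1, h2⟩
    · simp only [if_true, map_mul]
      exact ⟨by rw [key_K0_mul h2, h1, ha.2], mul_mem h2 ((mem_CC D).1 ha.1).1.1⟩

theorem exists_θ (hz : orderOf z = 2) {c : Subgroup.centralizer ({z} : Set G)} (hc : c ∈ CC D) :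
    ∃ x < 2048, F.θ x = c := by
  obtain ⟨hcA, -⟩ := (mem_CC D).1 hc
  obtain ⟨a, ha, hka⟩ := exists_getD_of_mem (d := 0) hcA.2
  obtain ⟨m, hm, hkm⟩ := kp_LA a (certA.1 ▸ ha)
  obtain ⟨hk, hK⟩ := F.key_θ m 4 le_rfl
  have hρ : D.ρ (F.θ (m <<< 7)) = D.ρ c := key_K0_inj hK hcA.1 (hk.trans (hkm.trans hka))
  have hmem : (F.θ (m <<< 7))⁻¹ * c ∈ Wt D := (CC_inf_Q D).le
    ⟨mul_mem ((CC D).inv_mem (F.θ_mem _)) hc, mem_Q_of_rho D (by rw [map_mul, map_inv, hρ, inv_mul_cancel])⟩
  set w := (F.θ (m <<< 7))⁻¹ * c with hw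
  obtain ⟨x, hx, hxΦ⟩ : ∃ x < 64, dec (uval x) = D.Φ w := by
    have key : ∀ v : W, inU v → ∃ x < 64, uval x = code v := forall_W (by decide +kernel)
    obtain ⟨x, hx, e⟩ := key _ hmem.2
    exact ⟨x, hx, by rw [e, H59.Fi24.dec_code]⟩
  have hshift : m <<< 7 < 2 ^ 11 := by rw [Nat.shiftLeft_eq]; omega
  have hfin : ∀ v < 2 ^ 7, F.θ v = w → ∃ x < 2048, F.θ x = c := fun v hv e =>
    ⟨m <<< 7 ^^^ v, Nat.xor_lt_two_pow (n := 11) hshift (lt_trans hv (by norm_num)),
      by rw [F.θ_mul hz, e, hw, mul_inv_cancel_left]⟩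
  have hx7 : x < 2 ^ 7 := by omega
  rcases D.eq_or_mul hmem.1 (F.θ_phi hx7).1.1 (hxΦ.symm.trans (F.θ_phi hx7).2.symm) with h | h
  · exact hfin x hx7 (Subtype.ext h).symm
  · refine hfin (x ^^^ 64) (Nat.xor_lt_two_pow hx7 (by norm_num)) ?_
    rw [F.θ_mul hz, F.θ_sixtyfour]
    exact (Subtype.ext h).symm

theorem θ_inj (hz : orderOf z = 2) {x y : ℕ} (hx : x < 2048) (hy : y < 2048) (h : F.θ x = F.θ y) :
    x = y := by
  classical
  let f : Fin 2048 → ↥(CC D) := fun x => ⟨F.θ x.val, F.θ_mem _⟩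
  have hs : Function.Surjective f := fun c => by
    obtain ⟨x, hx, e⟩ := F.exists_θ hz c.2
    exact ⟨⟨x, hx⟩, Subtype.ext e⟩
  have := (Nat.bijective_iff_surjective_and_card f).2 ⟨hs, by rw [Nat.card_fin, card_CC D hz]⟩
  exact congrArg Fin.val (this.1 (show f ⟨x, hx⟩ = f ⟨y, hy⟩ from Subtype.ext h))

theorem conj_θ (hz : orderOf z = 2) {j : ℕ} (hj : j < 6) :
    ∀ x < 2 ^ 11, F.y j * F.θ x * (F.y j)⁻¹ = F.θ (step j x) := by
  refine ext_bits (· * ·) ?_ (fun a _ b _ => ?_) (fun a _ b _ => ?_) fun i hi => ?_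
  · rw [show step j 0 = 0 by simp [step, shiftOf], F.θ_zero, mul_one, mul_inv_cancel]
  · rw [F.θ_mul hz]; group
  · rw [step_xor, F.θ_mul hz]
  · rcases Nat.lt_or_ge i 7 with h | h
    · have hb : 1 <<< i < 2 ^ 7 := by
        rw [Nat.one_shiftLeft]; exact Nat.pow_lt_pow_right (by norm_num) h
      rw [F.θ_low hb, F.θ_low (show step j (1 <<< i) < 2 ^ 7 from (step_low j hj i h).2)]
      exact F.inner.conj_y hj _ hb
    · obtain ⟨k, rfl⟩ := Nat.exists_eq_add_of_le h
      obtain ⟨hst, -, hstep⟩ := shift_ok j hj k (by omega)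
      rw [hstep, F.θ_mul hz, F.θ_low (show stepTab.getD (4 * j + k) 0 < 2 ^ 7 from hst)]
      show F.y j * th F.e 11 (1 <<< (7 + k)) * (F.y j)⁻¹ = th F.e 11 (1 <<< (7 + k)) * _
      rw [th_bit F.e 11 (by omega)]
      exact F.conj j hj k (by omega)

/-- Changing outer basis elements by the central involution. -/
def flip (b : ℕ → Bool) : Frame D where
  e i := if 7 ≤ i ∧ b (i - 7) = true then F.e i * zc z else F.e i
  y := F.y
  u_spec i hi := by rw [if_neg (by omega)]; exact F.u_spec i hi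
  z_spec := by rw [if_neg (by omega)]; exact F.z_spec
  a_spec k hk := by
    obtain ⟨h1, h2⟩ := F.a_spec k hk
    split
    · exact ⟨mul_mem h1 ((CC_inf_Q D).ge zc_Wt).1, by rw [map_mul, rho_Q D D.zc_mem, mul_one, h2]⟩
    · exact ⟨h1, h2⟩
  y_spec := F.y_spec
  conj j hj k hk := by
    have h7 : th (fun i => if 7 ≤ i ∧ b (i - 7) = true then F.e i * zc z else F.e i) 7
        (stepTab.getD (4 * j + k) 0) = th F.e 7 (stepTab.getD (4 * j + k) 0) :=
      th_congr (fun i hi => by rw [if_neg (by omega)]) _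
    rw [h7]
    set w := th F.e 7 (stepTab.getD (4 * j + k) 0)
    split
    · rw [show F.y j * (F.e (7 + k) * zc z) * (F.y j)⁻¹ =
          (F.y j * F.e (7 + k) * (F.y j)⁻¹) * (F.y j * zc z * (F.y j)⁻¹) by group, F.conj j hj k hk,
        zc_comm (F.y j), mul_inv_cancel_right, mul_assoc, mul_assoc, zc_comm w]
    · exact F.conj j hj k hk

end Frame

end H73.FiM24
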