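import Cfsg.Agent.H90.SteinerAut

/-!
An elementary abelian group of order `2^11` carrying pair labels from a 24-point set with the addition of
the cocode yields an S(5,8,24); a permutation group respecting the labels embeds in M24.
-/

set_option autoImplicit false

namespace H73.FiM24

open Cfsg Finset

/-- Pair labels with the addition rule of the cocode. -/
structure PairLabels (V α : Type*) [AddCommGroup V] [Fintype V] [Fintype α] where
  t : α → α → V
  two : ∀ v : V, v + v = 0
  card_V : Fintype.card V = 2 ^ 11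
  card_pts : Fintype.card α = 24
  add : ∀ p q r, t p q + t q r = t p r
  nz : ∀ p q, p ≠ q → t p q ≠ 0
  inj : ∀ p q r s, p ≠ q → t p q = t r s → (r = p ∧ s = q) ∨ (r = q ∧ s = p)
  far : ∀ p q r s, p ≠ q → r ≠ s → p ≠ r → p ≠ s → q ≠ r → q ≠ s →
    ∀ a b, t p q + t r s ≠ t a b

namespace PairLabels

variable {V α : Type*} [AddCommGroup V] [Fintype V] [DecidableEq V] [Fintype α] [DecidableEq α]
  (L : PairLabels V α)
include L

omit [DecidableEq V] [DecidableEq α] in
theorem t_self (p : α) : L.t p p = 0 := by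
  have := L.add p p p
  rw [L.two] at this
  exact this.symm

omit [DecidableEq V] [DecidableEq α] in
theorem t_comm (p q : α) : L.t p q = L.t q p := by
  have h := L.add p q p
  rw [L.t_self] at h
  calc L.t p q = L.t p q + (L.t q p + L.t q p) := by rw [L.two, add_zero]
    _ = L.t q p := by rw [← add_assoc, h, zero_add]

/-- the value of a set of points, based at a point -/
def val (o : α) (w : Finset α) : V := ∑ i ∈ w, L.t o i

theorem val_add (o : α) (w w' : Finset α) :
    L.val o w + L.val o w' = L.val o (symmDiff w w') := by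
  unfold val
  have h1 := sum_sdiff (f := fun i => L.t o i) (inter_subset_left : w ∩ w' ⊆ w)
  have h2 := sum_sdiff (f := fun i => L.t o i) (inter_subset_right : w ∩ w' ⊆ w')
  have e1 : w \ (w ∩ w') = w \ w' := by ext; simp
  have e2 : w' \ (w ∩ w') = w' \ w := by ext; simp
  rw [e1] at h1; rw [e2] at h2
  rw [← h1, ← h2, show symmDiff w w' = (w \ w') ∪ (w' \ w) from rfl,
    sum_union disjoint_sdiff_sdiff]
  rw [add_add_add_comm, L.two, add_zero]

theorem val_pair (o : α) {p q : α} (h : p ≠ q) : L.val o {p, q} = L.t p q := by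
  rw [val, sum_pair h, L.t_comm o p, L.add]

theorem val_split (o : α) {w : Finset α} (hw : 2 ≤ w.card) :
    ∃ p q, p ≠ q ∧ p ∈ w ∧ q ∈ w ∧ L.val o w = L.t p q + L.val o (w \ {p, q}) ∧
      (w \ {p, q}).card + 2 = w.card := by
  obtain ⟨p, hp, q, hq, hpq⟩ := one_lt_card.mp hw
  refine ⟨p, q, hpq, hp, hq, ?_, ?_⟩
  · have hsub : ({p, q} : Finset α) ⊆ w := insert_subset hp (singleton_subset_iff.mpr hq)
    rw [← L.val_pair o hpq, val, val, val, add_comm, sum_sdiff hsub]
  · have hsub : ({p, q} : Finset α) ⊆ w := insert_subset hp (singleton_subset_iff.mpr hq)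
    rw [card_sdiff_of_subset hsub, card_pair hpq]; omega

theorem val_four_ne (o : α) {w : Finset α} (hw : w.card = 4) (a b : α) : L.val o w ≠ L.t a b := by
  obtain ⟨p, q, hpq, -, -, e, hc⟩ := L.val_split o (w := w) (by omega)
  obtain ⟨r, s, hrs, hw'⟩ := card_eq_two.mp (show (w \ {p, q}).card = 2 by omega)
  rw [e, hw', L.val_pair o hrs]
  have hmem : ∀ x ∈ ({r, s} : Finset α), x ≠ p ∧ x ≠ q := by
    rw [← hw']; intro x hx; simpa using (mem_sdiff.mp hx).2
  exact L.far p q r s hpq hrs (hmem r (by simp)).1.symm (hmem s (by simp)).1.symm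
    (hmem r (by simp)).2.symm (hmem s (by simp)).2.symm a b

theorem val_ne_zero (o : α) {w : Finset α} (he : Even w.card) (h0 : w ≠ ∅) (h6 : w.card ≤ 6) :
    L.val o w ≠ 0 := by
  have hpos : 0 < w.card := card_pos.mpr (nonempty_iff_ne_empty.mpr h0)
  obtain ⟨p, q, hpq, -, -, e, hc⟩ := L.val_split o (w := w) (by obtain ⟨k, hk⟩ := he; omega)
  obtain ⟨k, hk⟩ := he
  intro h
  rcases (show w.card = 2 ∨ w.card = 4 ∨ w.card = 6 by omega) with hw | hw | hw
  · have : w \ {p, q} = ∅ := card_eq_zero.mp (by omega)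
    rw [this, val, val, sum_empty, add_zero] at e
    exact L.nz p q hpq (e ▸ h)
  · exact L.val_four_ne o hw p p (h.trans (L.t_self p).symm)
  · refine L.val_four_ne o (show (w \ {p, q}).card = 4 by omega) p q ?_
    rw [h] at e
    calc L.val o (w \ {p, q}) = L.t p q + L.t p q + L.val o (w \ {p, q}) := by rw [L.two, zero_add]
      _ = L.t p q := by rw [add_assoc, ← e, add_zero]

theorem even_symmDiff {w w' : Finset α} (h : Even w.card) (h' : Even w'.card) :
    Even (symmDiff w w').card := by
  have e : (symmDiff w w').card + 2 * (w ∩ w').card = w.card + w'.card := by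
    rw [show symmDiff w w' = (w \ w') ∪ (w' \ w) from rfl, card_union_of_disjoint disjoint_sdiff_sdiff]
    have h1 := card_sdiff_add_card_inter w w'
    have h2 := card_sdiff_add_card_inter w' w
    rw [inter_comm w' w] at h2
    omega
  obtain ⟨a, ha⟩ := h
  obtain ⟨b, hb⟩ := h'
  exact ⟨a + b - (w ∩ w').card, by omega⟩

theorem disjoint_of_val_eq (o : α) {w w' : Finset α} (hw : w.card = 4) (hw' : w'.card = 4)
    (hne : w ≠ w') (h : L.val o w = L.val o w') : Disjoint w w' := by
  by_contra hd
  refine L.val_ne_zero o (w := symmDiff w w') (L.even_symmDiff (by simp [hw, show Even 4 by decide])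
    (by simp [hw', show Even 4 by decide])) (fun e => hne ?_) ?_ ?_
  · exact symmDiff_eq_bot.mp e
  · rw [show symmDiff w w' = (w \ w') ∪ (w' \ w) from rfl, card_union_of_disjoint disjoint_sdiff_sdiff]
    have h1 := card_sdiff_add_card_inter w w'
    have h2 := card_sdiff_add_card_inter w' w
    rw [inter_comm w' w] at h2
    have h3 : 0 < (w ∩ w').card := card_pos.mpr (not_disjoint_iff_nonempty_inter.mp hd)
    omega
  · rw [← L.val_add, h, L.two]

/-- the four-sets with a given value -/
def fib (o : α) (v : V) : Finset (Finset α) :=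
  (powersetCard 4 univ).filter fun w => L.val o w = v

theorem card_fib_le (o : α) (v : V) : (L.fib o v).card ≤ 6 := by
  have hsub : (L.fib o v).biUnion id ⊆ (univ : Finset α) := subset_univ _
  have h := card_le_card hsub
  rw [card_univ, L.card_pts, card_biUnion] at h
  · have hs : ∑ u ∈ L.fib o v, (id u : Finset α).card = ∑ u ∈ L.fib o v, 4 :=
      sum_congr rfl fun w hw => (mem_powersetCard.mp (mem_filter.mp hw).1).2
    rw [hs, sum_const, smul_eq_mul] at h
    omega
  · intro w hw w' hw' hne
    exact L.disjoint_of_val_eq o (mem_powersetCard.mp (mem_filter.mp hw).1).2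
      (mem_powersetCard.mp (mem_filter.mp hw').1).2 hne
      ((mem_filter.mp hw).2.trans (mem_filter.mp hw').2.symm)

/-- the values which are no label -/
def far4 (o : α) : Finset V := univ \ insert 0 ((powersetCard 2 univ).image (L.val o))

theorem card_far4 (o : α) : (L.far4 o).card = 1771 := by
  have hinj : Set.InjOn (L.val o) ((powersetCard 2 univ : Finset (Finset α)) : Set (Finset α)) := by
    intro w hw w' hw' h
    obtain ⟨p, q, hpq, rfl⟩ := card_eq_two.mp (mem_powersetCard.mp hw).2
    obtain ⟨r, s, hrs, rfl⟩ := card_eq_two.mp (mem_powersetCard.mp hw').2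
    rw [L.val_pair o hpq, L.val_pair o hrs] at h
    rcases L.inj p q r s hpq h with ⟨rfl, rfl⟩ | ⟨rfl, rfl⟩
    · rfl
    · exact pair_comm _ _
  have h0 : (0 : V) ∉ (powersetCard 2 univ).image (L.val o) := by
    intro h
    obtain ⟨w, hw, hw0⟩ := mem_image.mp h
    have hc := (mem_powersetCard.mp hw).2
    exact L.val_ne_zero o (by rw [hc]; decide) (fun e => by rw [e] at hc; simp at hc) (by omega) hw0
  rw [far4, card_sdiff_of_subset (subset_univ _), card_univ, L.card_V, card_insert_of_notMem h0,
    card_image_of_injOn hinj, card_powersetCard, card_univ, L.card_pts]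
  decide

theorem val_mem_far4 (o : α) {w : Finset α} (hw : w.card = 4) : L.val o w ∈ L.far4 o := by
  rw [far4, mem_sdiff]
  refine ⟨mem_univ _, fun h => ?_⟩
  rcases mem_insert.mp h with h | h
  · exact L.val_ne_zero o (by rw [hw]; decide) (fun e => by rw [e] at hw; simp at hw) (by omega) h
  · obtain ⟨u, hu, e⟩ := mem_image.mp h
    obtain ⟨a, b, hab, rfl⟩ := card_eq_two.mp (mem_powersetCard.mp hu).2
    exact L.val_four_ne o hw a b (e.symm.trans (L.val_pair o hab))

theorem card_fib (o : α) {v : V} (hv : v ∈ L.far4 o) : (L.fib o v).card = 6 := by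
  refine le_antisymm (L.card_fib_le o v) ?_
  by_contra hlt
  have h1 : (powersetCard 4 (univ : Finset α)).card = ∑ u ∈ L.far4 o, (L.fib o u).card :=
    card_eq_sum_card_fiberwise fun w hw => L.val_mem_far4 o (mem_powersetCard.mp hw).2
  have h2 : ∑ u ∈ L.far4 o, (L.fib o u).card < ∑ _u ∈ L.far4 o, 6 :=
    sum_lt_sum (fun u _ => L.card_fib_le o u) ⟨v, hv, by omega⟩
  rw [← h1, sum_const, smul_eq_mul, card_powersetCard, card_univ, L.card_pts, L.card_far4] at h2
  rw [show Nat.choose 24 4 = 10626 by rfl] at h2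
  omega

/-- the eight-sets of value zero -/
def blocks (o : α) : Set (Finset α) := {w | w.card = 8 ∧ L.val o w = 0}

theorem isSteiner (o : α) : IsSteinerSystem 5 8 (L.blocks o) := by
  refine ⟨fun b hb => hb.1, fun P hP => ?_⟩
  obtain ⟨p, hp⟩ : P.Nonempty := card_pos.mp (by omega)
  set w := P.erase p with hw
  have hwc : w.card = 4 := by rw [hw, card_erase_of_mem hp]; omega
  have hf := L.card_fib o (L.val_mem_far4 o hwc)
  have hU : ((L.fib o (L.val o w)).biUnion id) = univ := by
    refine eq_of_subset_of_card_le (subset_univ _) ?_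
    have hs : ∑ u ∈ L.fib o (L.val o w), (id u : Finset α).card = ∑ u ∈ L.fib o (L.val o w), 4 :=
      sum_congr rfl fun u hu => (mem_powersetCard.mp (mem_filter.mp hu).1).2
    rw [card_univ, L.card_pts, card_biUnion, hs, sum_const, smul_eq_mul, hf]
    intro u hu u' hu' hne
    exact L.disjoint_of_val_eq o (mem_powersetCard.mp (mem_filter.mp hu).1).2
      (mem_powersetCard.mp (mem_filter.mp hu').1).2 hne
      ((mem_filter.mp hu).2.trans (mem_filter.mp hu').2.symm)
  obtain ⟨w', hw', hpw'⟩ := mem_biUnion.mp (hU.ge (mem_univ p))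
  have hpw : p ∈ w' := hpw'
  obtain ⟨hw'c, hval⟩ := mem_filter.mp hw'
  have hne : w ≠ w' := fun e => by
    rw [← e, hw] at hpw
    exact notMem_erase p P hpw
  have hdis := L.disjoint_of_val_eq o hwc (mem_powersetCard.mp hw'c).2 hne hval.symm
  have hPb : P ⊆ w ∪ w' := fun x hx => by
    rcases eq_or_ne x p with rfl | h
    · exact mem_union_right _ hpw
    · exact mem_union_left _ (mem_erase.mpr ⟨h, hx⟩)
  refine ⟨w ∪ w', ⟨⟨?_, ?_⟩, hPb⟩, ?_⟩
  · rw [card_union_of_disjoint hdis, hwc, (mem_powersetCard.mp hw'c).2]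
  · rw [val, sum_union hdis]
    show L.val o w + L.val o w' = 0
    rw [hval, L.two]
  · rintro b ⟨⟨hbc, hbv⟩, hPb'⟩
    by_contra hbne
    have hcb : (w ∪ w').card = 8 := by rw [card_union_of_disjoint hdis, hwc, (mem_powersetCard.mp hw'c).2]
    refine L.val_ne_zero o (w := symmDiff b (w ∪ w')) (L.even_symmDiff (by rw [hbc]; decide)
      (by rw [hcb]; decide)) (fun e => hbne (symmDiff_eq_bot.mp e)) ?_ ?_
    · rw [show symmDiff b (w ∪ w') = (b \ (w ∪ w')) ∪ ((w ∪ w') \ b) from rfl,
        card_union_of_disjoint disjoint_sdiff_sdiff]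
      have h1 := card_sdiff_add_card_inter b (w ∪ w')
      have h2 := card_sdiff_add_card_inter (w ∪ w') b
      rw [inter_comm (w ∪ w') b] at h2
      have h3 : P.card ≤ (b ∩ (w ∪ w')).card := card_le_card (subset_inter hPb' hPb)
      omega
    · rw [← L.val_add, hbv, zero_add, val, sum_union hdis]
      show L.val o w + L.val o w' = 0
      rw [hval, L.two]

theorem val_base (o o' : α) {w : Finset α} (he : Even w.card) : L.val o w = L.val o' w := by
  have h : ∀ i, L.t o i = L.t o o' + L.t o' i := fun i => (L.add o o' i).symm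
  rw [val, sum_congr rfl fun i _ => h i, sum_add_distrib, sum_const]
  obtain ⟨k, hk⟩ := he
  rw [hk, add_nsmul, L.two, zero_add]
  rfl

/-- a group acting compatibly maps into M24 -/
theorem exists_hom {Γ : Type*} [Group Γ] (act : Γ →* Equiv.Perm α) (lin : Γ → V →+ V)
    (hlin : ∀ g p q, lin g (L.t p q) = L.t (act g p) (act g q)) :
    ∃ π : Γ →* M24, ∃ e : α ≃ GolayPt, (∀ g p, (π g : Equiv.Perm GolayPt) (e p) = e (act g p)) ∧
      π.ker = act.ker := by
  obtain ⟨o⟩ : Nonempty α := Fintype.card_pos_iff.mp (by rw [L.card_pts]; norm_num)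
  obtain ⟨e, he⟩ := H90.s24_iso L.card_pts (L.isSteiner o)
  have hmem : ∀ g, act g ∈ setSystemAut (L.blocks o) := by
    intro g
    rw [H90.mem_setSystemAut_iff]
    have hsub : ∀ g, (fun b => b.image (act g)) '' L.blocks o ⊆ L.blocks o := by
      rintro g _ ⟨b, ⟨hbc, hbv⟩, rfl⟩
      refine ⟨by rw [card_image_of_injective _ (act g).injective, hbc], ?_⟩
      have he : Even (b.image (act g)).card := by
        rw [card_image_of_injective _ (act g).injective, hbc]; decide
      rw [L.val_base o (act g o) he, val, sum_image (act g).injective.injOn,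
        ← sum_congr rfl (fun i _ => hlin g o i), ← map_sum]
      show lin g (L.val o b) = 0
      rw [hbv, map_zero]
    refine Set.Subset.antisymm (hsub g) fun b hb => ?_
    refine ⟨b.image (act g⁻¹), hsub g⁻¹ ⟨b, hb, rfl⟩, ?_⟩
    show (b.image (act g⁻¹)).image (act g) = b
    rw [image_image, map_inv]
    ext x; simp
  let F : setSystemAut (L.blocks o) ≃* M24 :=
    (H90.setSystemAutEquiv e he).trans (MulEquiv.subgroupCongr H90.M24_eq_setSystemAut_octads).symm
  refine ⟨F.toMonoidHom.comp (act.codRestrict _ hmem), e, fun g p => ?_, ?_⟩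
  · show e.permCongr (act g) (e p) = _
    simp [Equiv.permCongr_apply]
  · ext g
    rw [MonoidHom.mem_ker, MonoidHom.mem_ker, MonoidHom.comp_apply, MulEquiv.coe_toMonoidHom,
      EmbeddingLike.map_eq_one_iff]
    exact ⟨fun h => congrArg Subtype.val h, fun h => Subtype.ext h⟩

end PairLabels

end H73.FiM24
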