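import Cfsg.Agent.H73.FiM24.Signs
import Cfsg.Agent.H73.FiM24.Pairs
import Cfsg.Agent.H59.Fischer.Final

/-!
Transitivity on the non-conjugates forces the signs; the 276 elements are labelled by the pairs of 24 points.
-/

set_option autoImplicit false
set_option maxRecDepth 100000

namespace H73.FiM24

open H16.Fi24 H59.Fi24

/-- Eleven bits as a vector. -/
def bits (x : ℕ) : Fin 11 → ZMod 2 := fun i : Fin 11 => if x.testBit i.val then 1 else 0

theorem bits_xor (x y : ℕ) : bits (x ^^^ y) = bits x + bits y := funext fun i => by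
  show (if (x ^^^ y).testBit i.val then (1 : ZMod 2) else 0) = _ + _
  rw [Nat.testBit_xor]
  simp only [bits]
  cases x.testBit i.val <;> cases y.testBit i.val <;> decide

theorem bits_inj {x y : ℕ} (hx : x < 2048) (hy : y < 2048) (h : bits x = bits y) : x = y := by
  refine Nat.eq_of_testBit_eq fun i => ?_
  rcases Nat.lt_or_ge i 11 with hi | hi
  · have := congrFun h ⟨i, hi⟩
    simp only [bits] at this
    revert this
    cases x.testBit i <;> cases y.testBit i <;> simp
  · rw [Nat.testBit_lt_two_pow (lt_of_lt_of_le hx (Nat.pow_le_pow_right (by norm_num) hi : 2 ^ 11 ≤ 2 ^ i)),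
      Nat.testBit_lt_two_pow (lt_of_lt_of_le hy (Nat.pow_le_pow_right (by norm_num) hi : 2 ^ 11 ≤ 2 ^ i))]

theorem lab_inj2 : ((List.range 24).all fun p => (List.range p).all fun q => labN q p == labN p q) = true := by
  decide +kernel

theorem msk_lt : ∀ a < 16, ∀ d < 2, msk a d < 2 ^ 128 := by decide +kernel

theorem one_mem_msk : memT 0 1 = true := by decide +kernel

theorem memT_one (e : ℕ) : memT e 1 = true := by
  rw [← one_mem_msk, memT, memT, show 1 / 128 = 0 from rfl]
  rfl

/-- The neighbours as a finite set. -/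
def nbF (e t : ℕ) : Finset ℕ := (Finset.range 2048).filter fun s => memT e s = true ∧ memT e (t ^^^ s) = true

theorem nbrs_toFinset (e t : ℕ) : (nbrs e t).toFinset = nbF e t := by
  ext s
  simp [nbrs, nbF]

theorem nbrs_nodup (e t : ℕ) : (nbrs e t).Nodup := List.Nodup.filter _ List.nodup_range

theorem pairCount_eq (e t : ℕ) :
    pairCount e t = ∑ a ∈ nbF e t, ((nbF e t).filter fun b => memT e (a ^^^ b) = true).card := by
  rw [pairCount, ← List.sum_toFinset _ (nbrs_nodup e t), nbrs_toFinset]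
  refine Finset.sum_congr rfl fun a _ => ?_
  rw [List.countP_eq_length_filter, ← List.toFinset_card_of_nodup ((nbrs_nodup e t).filter _),
    List.toFinset_filter, nbrs_toFinset]

theorem card_nbF (e : ℕ) {t : ℕ} (ht : t < 2048) :
    (nbF e t).card = ∑ a ∈ Finset.range 16,
      cnt1 (t % 128) (msk a (sgn e a)) (msk ((t / 128) ^^^ a) (sgn e ((t / 128) ^^^ a))) := by
  rw [nbF, ← Nat.count_eq_card_filter_range, show (2048 : ℕ) = 128 * 16 from rfl, count_blocks]
  refine Finset.sum_congr rfl fun a ha => ?_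
  have ha' := Finset.mem_range.1 ha
  rw [cnt1, Nat.count]
  refine List.countP_congr fun w hw => ?_
  have hw' := List.mem_range.1 hw
  have h1 : (128 * a + w) / 128 = a := by omega
  have h2 : (128 * a + w) % 128 = w := by omega
  have h3 : (t ^^^ (128 * a + w)) / 128 = (t / 128) ^^^ a := by
    have := Nat.shiftRight_xor_distrib (a := t) (b := 128 * a + w) (i := 7)
    simpa only [Nat.shiftRight_eq_div_pow, show (2 : ℕ) ^ 7 = 128 from rfl, h1] using this
  have h4 : (t ^^^ (128 * a + w)) % 128 = (t % 128 ^^^ w) % 128 := by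
    have hlt : t % 128 ^^^ w < 2 ^ 7 := Nat.xor_lt_two_pow (Nat.mod_lt _ (by norm_num)) hw'
    have := Nat.xor_mod_two_pow (a := t) (b := 128 * a + w) (n := 7)
    rw [show (2 : ℕ) ^ 7 = 128 from rfl, h2] at this
    rw [this, Nat.mod_eq_of_lt (show t % 128 ^^^ w < 128 from hlt)]
  simp only [memT, h1, h2, h3, h4, decide_eq_true_eq, Bool.and_eq_true]

theorem card_nbF_one (e : ℕ) : (nbF e 1).card = 44 := by
  rw [card_nbF e (by norm_num)]
  obtain ⟨h1, h2⟩ := cnt_zero
  have hl : ((List.range 16).map fun a => cnt1 1 (msk a 0) (msk a 0)).sum =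
      ∑ a ∈ Finset.range 16, cnt1 1 (msk a 0) (msk a 0) := rfl
  rw [← h2, hl]
  refine Finset.sum_congr rfl fun a ha => ?_
  rw [show (1 : ℕ) % 128 = 1 from rfl, show (1 : ℕ) / 128 = 0 from rfl, Nat.zero_xor]
  have hs : ∀ d < 2, cnt1 1 (msk a d) (msk a d) = cnt1 1 (msk a 0) (msk a 0) := by
    intro d hd
    interval_cases d
    · rfl
    · exact h1 a (Finset.mem_range.1 ha)
  exact hs _ (sgn_lt e a)

theorem root_facts : ∀ m < 15, ∀ d < 2,
    root m d < 2048 ∧ root m d / 128 = m + 1 ∧ (msk (m + 1) d).testBit (root m d % 128) = true := by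
  decide +kernel

theorem card_nbF_root (e : ℕ) {m : ℕ} (hm : m < 15) :
    (nbF e (root m (sgn e (m + 1)))).card = nSum e m := by
  have hd := sgn_lt e (m + 1)
  obtain ⟨h1, h2, -⟩ := root_facts m hm _ hd
  rw [card_nbF e h1, h2, nSum]
  show _ = ∑ a ∈ Finset.range 16, ct m a (sgn e (m + 1)) (sgn e a) (sgn e ((m + 1) ^^^ a))
  refine Finset.sum_congr rfl fun a ha => ?_
  exact cnt_ok m hm a (Finset.mem_range.1 ha) _ hd _ (sgn_lt e a) _ (sgn_lt e _)

universe u

variable {G : Type u} [Group G] [Finite G] {z : G}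
  {Q : Subgroup (Subgroup.centralizer ({z} : Set G))} [Q.Normal] {D : Model z Q}

namespace Frame

variable (F : Frame D)

/-- The coordinates of an element. -/
noncomputable def co (hz : orderOf z = 2) (a : ↥(AG D)) : ℕ :=
  (F.exists_θ hz ((mem_AG D (x := ⟨(a : G), AG_le D a.2⟩)).1 a.2)).choose

theorem co_spec (hz : orderOf z = 2) (a : ↥(AG D)) :
    F.co hz a < 2048 ∧ ((F.θ (F.co hz a) : _) : G) = a := by
  have h := (F.exists_θ hz ((mem_AG D (x := ⟨(a : G), AG_le D a.2⟩)).1 a.2)).choose_spec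
  exact ⟨h.1, congrArg Subtype.val h.2⟩

theorem co_eq (hz : orderOf z = 2) {x : ℕ} (hx : x < 2048) {a : ↥(AG D)} (h : ((F.θ x : _) : G) = a) :
    F.co hz a = x :=
  F.θ_inj hz (F.co_spec hz a).1 hx (Subtype.ext ((F.co_spec hz a).2.trans h.symm))

/-- The neighbour sets are carried to each other by the normalizer. -/
theorem counts_eq (hz : orderOf z = 2) {e : ℕ} (hT : ∀ x < 2048, (F.Tb x ↔ memT e x = true))
    {m : G} (hm : m ∈ Subgroup.normalizer (AG D : Set G)) {x y : ℕ} (hx : x < 2048) (hy : y < 2048)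
    (hxy : m * (F.θ x : G) * m⁻¹ = (F.θ y : G)) :
    (nbF e x).card = (nbF e y).card ∧ pairCount e x = pairCount e y := by
  classical
  have hmem : ∀ v, m * ((F.θ v : _) : G) * m⁻¹ ∈ AG D := fun v =>
    normalizer_conj_mem hm ((mem_AG D).2 (F.θ_mem v))
  let σ : ℕ → ℕ := fun v => F.co hz ⟨_, hmem v⟩
  have hσ : ∀ v, σ v < 2048 ∧ ((F.θ (σ v) : _) : G) = m * ((F.θ v : _) : G) * m⁻¹ := fun v =>
    F.co_spec hz ⟨_, hmem v⟩
  have hσx : σ x = y := F.co_eq hz hy hxy.symm
  have hσxor : ∀ v < 2048, ∀ w < 2048, σ (v ^^^ w) = σ v ^^^ σ w := fun v hv w hw =>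
    F.co_eq hz (Nat.xor_lt_two_pow (n := 11) (hσ v).1 (hσ w).1) (by
      rw [F.θ_mul hz, Subgroup.coe_mul, (hσ v).2, (hσ w).2]
      show _ = m * ((F.θ (v ^^^ w) : _) : G) * m⁻¹
      rw [F.θ_mul hz, Subgroup.coe_mul]
      group)
  have hσinj : ∀ v < 2048, ∀ w < 2048, σ v = σ w → v = w := fun v hv w hw e => by
    refine F.θ_inj hz hv hw (Subtype.ext ?_)
    have := (hσ v).2
    rw [e, (hσ w).2] at this
    exact (conj_injective this).symm
  have hσT : ∀ v < 2048, (memT e (σ v) = true ↔ memT e v = true) := by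
    intro v hv
    rw [← hT _ (hσ v).1, ← hT v hv]
    have hc : IsConj ((F.θ v : _) : G) ((F.θ (σ v) : _) : G) := isConj_iff.2 ⟨m, (hσ v).2.symm⟩
    refine and_congr (not_congr ⟨fun h => ?_, fun h => ?_⟩)
      (not_congr ⟨fun h => h.trans hc.symm, fun h => h.trans hc⟩)
    · refine Subtype.ext ?_
      have := (hσ v).2
      rw [h, Subgroup.coe_one] at this
      exact conj_eq_one_iff.1 this.symm
    · refine Subtype.ext ?_
      rw [(hσ v).2, h, Subgroup.coe_one]
      group
  have hsurj : ∀ w < 2048, ∃ v < 2048, σ v = w := by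
    have h : (Finset.range 2048).image σ = Finset.range 2048 := by
      refine Finset.eq_of_subset_of_card_le ?_ ?_
      · intro w hw
        obtain ⟨v, -, rfl⟩ := Finset.mem_image.1 hw
        exact Finset.mem_range.2 (hσ v).1
      · rw [Finset.card_image_of_injOn fun v hv w hw => hσinj v (Finset.mem_range.1 hv) w (Finset.mem_range.1 hw)]
    intro w hw
    have := Finset.mem_range.2 hw
    rw [← h] at this
    obtain ⟨v, hv, e⟩ := Finset.mem_image.1 this
    exact ⟨v, Finset.mem_range.1 hv, e⟩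
  have hnb : nbF e y = (nbF e x).image σ := by
    ext w
    simp only [nbF, Finset.mem_image, Finset.mem_filter, Finset.mem_range]
    constructor
    · rintro ⟨hw, h1, h2⟩
      obtain ⟨v, hv, rfl⟩ := hsurj w hw
      refine ⟨v, ⟨hv, (hσT v hv).1 h1, ?_⟩, rfl⟩
      rw [← hσT _ (Nat.xor_lt_two_pow (n := 11) hx hv), hσxor x hx v hv, hσx]
      exact h2
    · rintro ⟨v, ⟨hv, h1, h2⟩, rfl⟩
      refine ⟨(hσ v).1, (hσT v hv).2 h1, ?_⟩
      rw [← hσx, ← hσxor x hx v hv, hσT _ (Nat.xor_lt_two_pow (n := 11) hx hv)]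
      exact h2
  have hlt : ∀ v ∈ nbF e x, v < 2048 := fun v hv => Finset.mem_range.1 (Finset.mem_filter.1 hv).1
  have hio : Set.InjOn σ (nbF e x : Set ℕ) := fun v hv w hw => hσinj v (hlt v hv) w (hlt w hw)
  refine ⟨by rw [hnb, Finset.card_image_of_injOn hio], ?_⟩
  rw [pairCount_eq, pairCount_eq, hnb, Finset.sum_image hio]
  refine Finset.sum_congr rfl fun a ha => ?_
  rw [Finset.filter_image, Finset.card_image_of_injOn (hio.mono (Finset.filter_subset _ _))]
  refine congrArg Finset.card (Finset.filter_congr fun b hb => ?_)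
  rw [← hσxor a (hlt a ha) b (hlt b hb), hσT _ (Nat.xor_lt_two_pow (n := 11) (hlt a ha) (hlt b hb))]

end Frame

/-- The signs are the good ones. -/
theorem exists_good (hF : Cfsg.IsOfLargeFischerTypeAt z Q) (D : Model z Q)
    (P : H33.FiLocal.Parts (AG D) (Subgroup.normalizer (AG D : Set G)) z) :
    ∃ F : Frame D, ∀ x < 2048, (F.Tb x ↔ memT goodSigns x = true) := by
  have hz := hF.1.1
  obtain ⟨-, h276, -, htrans⟩ := counts_AG hF D P
  obtain ⟨F, e, he, hT⟩ := exists_signs hF D h276
  have hkey : ∀ x < 2048, memT e x = true →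
      (nbF e x).card = (nbF e 1).card ∧ pairCount e x = pairCount e 1 := by
    intro x hx hxT
    obtain ⟨h1, h2⟩ := (hT x hx).2 hxT
    obtain ⟨h1', h2'⟩ := (hT 1 (by norm_num)).2 (memT_one e)
    obtain ⟨m, hm, e'⟩ := htrans _ ((mem_AG D).2 (F.θ_mem x)) _ ((mem_AG D).2 (F.θ_mem 1))
      (fun h => h1 (Subtype.ext h)) (fun h => h1' (Subtype.ext h))
      ⟨fun h => absurd h h2, fun h => absurd h h2'⟩
    exact F.counts_eq hz hT hm hx (by norm_num) e'
  have hroot : ∀ m < 15, memT e (root m (sgn e (m + 1))) = true ∧ root m (sgn e (m + 1)) < 2048 := by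
    intro m hm
    obtain ⟨h1, h2, h3⟩ := root_facts m hm _ (sgn_lt e (m + 1))
    exact ⟨by rw [memT, h2]; exact h3, h1⟩
  have hc : e ∈ candSigns := by
    refine cand_of_counts e he (List.all_eq_true.2 fun m hm => beq_iff_eq.2 ?_)
    obtain ⟨h1, h2⟩ := hroot m (List.mem_range.1 hm)
    rw [← card_nbF_root e (List.mem_range.1 hm), (hkey _ h2 h1).1, card_nbF_one]
  rcases eq_good e hc with rfl | h
  · exact ⟨F, hT⟩
  · exfalso
    obtain ⟨h1, h2⟩ := hroot 0 (by norm_num)
    exact h (hkey _ h2 h1).2.symm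

/-- The labels. -/
theorem labN_lt (p q : Fin 24) : labN p q < 2048 := (lab_mem p p.2 q q.2).1

theorem labN_symm (p q : Fin 24) : labN p q = labN q p := by
  have h := lab_inj2
  simp only [List.all_eq_true, List.mem_range, beq_iff_eq] at h
  rcases lt_trichotomy p.val q.val with h' | h' | h'
  · exact h q q.2 p h'
  · rw [h']
  · exact (h p p.2 q h').symm

theorem labN_inj {p q r s : Fin 24} (hpq : p ≠ q) (h : labN p q = labN r s) :
    (r = p ∧ s = q) ∨ (r = q ∧ s = p) := by
  have hrs : r ≠ s := fun e => by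
    subst e
    have h0 : labN r r = 0 := (lab_mem r r.2 r r.2).2.2 rfl
    rw [h0] at h
    have hm : memT goodSigns (labN p q) = true :=
      (lab_mem p p.2 q q.2).2.1.resolve_left fun e => hpq (Fin.ext e)
    rw [h] at hm
    exact absurd hm (by decide +kernel)
  have hnd := List.nodup_flatMap.1 lab_inj
  have key : ∀ a b c d : Fin 24, a < b → c < d → labN a b = labN c d → a = c ∧ b = d := by
    intro a b c d hab hcd e
    have h1 : labN a b ∈ (List.range b).map fun p => labN p b.val :=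
      List.mem_map.2 ⟨a, List.mem_range.2 hab, rfl⟩
    have h2 : labN a b ∈ (List.range d).map fun p => labN p d.val :=
      List.mem_map.2 ⟨c, List.mem_range.2 hcd, e.symm⟩
    have hbd : b.val = d.val := by
      have hpw := hnd.2
      by_contra hne
      rcases Nat.lt_or_gt_of_ne hne with hlt | hlt
      · exact List.pairwise_iff_getElem.1 hpw b d (by simp) (by simp) hlt
          (by simpa using h1) (by simpa using h2)
      · exact List.pairwise_iff_getElem.1 hpw d b (by simp) (by simp) hlt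
          (by simpa using h2) (by simpa using h1)
    obtain rfl : b = d := Fin.ext hbd
    refine ⟨Fin.ext ?_, rfl⟩
    exact List.inj_on_of_nodup_map (hnd.1 b (List.mem_range.2 b.2)) (List.mem_range.2 hab)
      (List.mem_range.2 hcd) e
  rcases lt_or_gt_of_ne hpq with h1 | h1 <;> rcases lt_or_gt_of_ne hrs with h2 | h2
  · obtain ⟨rfl, rfl⟩ := key p q r s h1 h2 h; exact Or.inl ⟨rfl, rfl⟩
  · obtain ⟨rfl, rfl⟩ := key p q s r h1 h2 (h.trans (labN_symm r s)); exact Or.inr ⟨rfl, rfl⟩
  · obtain ⟨rfl, rfl⟩ := key q p r s h1 h2 ((labN_symm q p).trans h); exact Or.inr ⟨rfl, rfl⟩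
  · obtain ⟨rfl, rfl⟩ := key q p s r h1 h2 ((labN_symm q p).trans (h.trans (labN_symm r s)))
    exact Or.inl ⟨rfl, rfl⟩

theorem labN_far {p q r s : Fin 24} (hpq : p ≠ q) (hrs : r ≠ s) (hpr : p ≠ r) (hps : p ≠ s)
    (hqr : q ≠ r) (hqs : q ≠ s) :
    memT goodSigns (labN p q ^^^ labN r s) = false ∧ labN p q ^^^ labN r s ≠ 0 := by
  have h := lab_far
  simp only [List.all_eq_true, List.mem_range, Bool.or_eq_true, Bool.and_eq_true, beq_iff_eq,
    Bool.not_eq_true', bne_iff_ne] at h
  have key : ∀ p q r s : Fin 24, q < p → r < p → s < r → r ≠ q → s ≠ q →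
      memT goodSigns (labN p q ^^^ labN r s) = false ∧ labN p q ^^^ labN r s ≠ 0 := by
    intro p q r s h1 h2 h3 h4 h5
    rcases h p p.2 q h1 r h2 s h3 with (e | e) | e
    · exact absurd (Fin.ext e) h4
    · exact absurd (Fin.ext e) h5
    · exact e
  have hmax : (q < p ∧ r < p ∧ s < p) ∨ (p < q ∧ r < q ∧ s < q) ∨ (p < r ∧ q < r ∧ s < r) ∨
      (p < s ∧ q < s ∧ r < s) := by
    simp only [Fin.lt_def]
    have := Fin.val_ne_iff.2 hpq; have := Fin.val_ne_iff.2 hrs; have := Fin.val_ne_iff.2 hpr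
    have := Fin.val_ne_iff.2 hps; have := Fin.val_ne_iff.2 hqr; have := Fin.val_ne_iff.2 hqs
    omega
  rcases hmax with ⟨a, b, c⟩ | ⟨a, b, c⟩ | ⟨a, b, c⟩ | ⟨a, b, c⟩
  · rcases lt_or_gt_of_ne hrs with d | d
    · rw [labN_symm r s]; exact key p q s r a c d hqs.symm hqr.symm
    · exact key p q r s a b d hqr.symm hqs.symm
  · rw [labN_symm p q]
    rcases lt_or_gt_of_ne hrs with d | d
    · rw [labN_symm r s]; exact key q p s r a c d hps.symm hpr.symm
    · exact key q p r s a b d hpr.symm hps.symm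
  · rw [Nat.xor_comm]
    rcases lt_or_gt_of_ne hpq with d | d
    · rw [labN_symm p q]; exact key r s q p c b d hqs hps
    · exact key r s p q c a d hps hqs
  · rw [Nat.xor_comm, labN_symm r s]
    rcases lt_or_gt_of_ne hpq with d | d
    · rw [labN_symm p q]; exact key s r q p c b d hqr hpr
    · exact key s r p q c a d hpr hqr

/-- The labels as vectors. -/
def pairLabels : PairLabels (Fin 11 → ZMod 2) (Fin 24) where
  t p q := bits (labN p q)
  two v := funext fun _ => ZModModule.add_self _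
  card_V := by simp
  card_pts := Fintype.card_fin 24
  add p q r := by rw [← bits_xor, lab_add p p.2 q q.2 r r.2]
  nz p q h e := by
    have h0 : bits (labN p q) = bits 0 := e.trans (funext fun i => by simp [bits])
    rw [← (lab_mem p p.2 p p.2).2.2 rfl] at h0
    rcases labN_inj h (bits_inj (labN_lt p q) (labN_lt p p) h0) with ⟨-, e'⟩ | ⟨e', -⟩ <;> exact h e'
  inj p q r s h e := labN_inj h (bits_inj (labN_lt p q) (labN_lt r s) e)
  far p q r s h1 h2 h3 h4 h5 h6 a b e := by
    obtain ⟨hf, hne⟩ := labN_far h1 h2 h3 h4 h5 h6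
    rw [← bits_xor] at e
    have e' := bits_inj (Nat.xor_lt_two_pow (n := 11) (labN_lt p q) (labN_lt r s)) (labN_lt a b) e
    rw [e'] at hf hne
    rcases (lab_mem a a.2 b b.2).2.1 with h | h
    · exact hne ((lab_mem a a.2 b b.2).2.2 h)
    · rw [h] at hf; exact absurd hf (by decide)

theorem pairLabels_t (p q : Fin 24) : pairLabels.t p q = bits (labN p q) := rfl

theorem exists_lab {x : ℕ} (hx : x < 2048) (h : memT goodSigns x = true) :
    ∃ p q : Fin 24, p ≠ q ∧ labN p q = x := by
  set L := (List.range 24).flatMap fun q => (List.range q).map fun p => labN p q with hL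
  have hsub : L.toFinset ⊆ (Finset.range 2048).filter fun x => memT goodSigns x = true := by
    intro v hv
    obtain ⟨q, hq, hv⟩ := List.mem_flatMap.1 (List.mem_toFinset.1 hv)
    obtain ⟨p, hp, rfl⟩ := List.mem_map.1 hv
    have hq' := List.mem_range.1 hq
    have hp' := List.mem_range.1 hp
    obtain ⟨h1, h2, -⟩ := lab_mem p (by omega) q hq'
    exact Finset.mem_filter.2 ⟨Finset.mem_range.2 h1, h2.resolve_left (by omega)⟩
  have hcard : ((Finset.range 2048).filter fun x => memT goodSigns x = true).card ≤ L.toFinset.card := by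
    rw [List.toFinset_card_of_nodup lab_inj, ← Nat.count_eq_card_filter_range, Nat.count]
    refine le_of_eq ?_
    rw [List.countP_eq_length_filter]
    have hlen : L.length = 276 := by rw [hL]; decide +kernel
    rw [hlen, ← card_good]
    congr 1
  have := Finset.eq_of_subset_of_card_le hsub hcard
  have hv : x ∈ L.toFinset := this ▸ Finset.mem_filter.2 ⟨Finset.mem_range.2 hx, h⟩
  obtain ⟨q, hq, hv⟩ := List.mem_flatMap.1 (List.mem_toFinset.1 hv)
  obtain ⟨p, hp, e⟩ := List.mem_map.1 hv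
  have hq' := List.mem_range.1 hq
  have hp' := List.mem_range.1 hp
  exact ⟨⟨p, by omega⟩, ⟨q, hq'⟩, fun h => by simpa using absurd (congrArg Fin.val h) (Nat.ne_of_lt hp'), e⟩

/-- The non-conjugates of the central involution carry pair labels. -/
theorem exists_labels (hF : Cfsg.IsOfLargeFischerTypeAt z Q) (D : Model z Q)
    (P : H33.FiLocal.Parts (AG D) (Subgroup.normalizer (AG D : Set G)) z) :
    ∃ (L : PairLabels (Fin 11 → ZMod 2) (Fin 24)) (φ : ↥(AG D) → (Fin 11 → ZMod 2)),
      (∀ a b, φ (a * b) = φ a + φ b) ∧ Function.Bijective φ ∧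
        ∀ a : ↥(AG D), ((a : G) ≠ 1 ∧ ¬ IsConj z (a : G)) ↔ ∃ p q, p ≠ q ∧ φ a = L.t p q := by
  have hz := hF.1.1
  obtain ⟨F, hF'⟩ := exists_good hF D P
  refine ⟨pairLabels, fun a => bits (F.co hz a), fun a b => ?_, ?_, fun a => ?_⟩
  · rw [← bits_xor]
    refine congrArg bits (F.co_eq hz (Nat.xor_lt_two_pow (n := 11) (F.co_spec hz a).1 (F.co_spec hz b).1) ?_)
    rw [F.θ_mul hz, Subgroup.coe_mul, (F.co_spec hz a).2, (F.co_spec hz b).2, Subgroup.coe_mul]
  · refine (Nat.bijective_iff_injective_and_card _).2 ⟨fun a b h => ?_, ?_⟩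
    · have := bits_inj (F.co_spec hz a).1 (F.co_spec hz b).1 h
      exact Subtype.ext ((F.co_spec hz a).2.symm.trans (by rw [this]; exact (F.co_spec hz b).2))
    · rw [card_AG D hz, Nat.card_eq_fintype_card]; simp
  · obtain ⟨hlt, hco⟩ := F.co_spec hz a
    have hTb : ((a : G) ≠ 1 ∧ ¬ IsConj z (a : G)) ↔ F.Tb (F.co hz a) := by
      rw [Frame.Tb, Tp, ne_eq, ne_eq, ← hco]
      exact and_congr (not_congr ⟨fun h => Subtype.ext h, fun h => congrArg Subtype.val h⟩) Iff.rfl
    rw [hTb, hF' _ hlt]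
    constructor
    · intro h
      obtain ⟨p, q, hpq, e⟩ := exists_lab hlt h
      exact ⟨p, q, hpq, by rw [pairLabels_t, e]⟩
    · rintro ⟨p, q, hpq, e⟩
      rw [pairLabels_t] at e
      rw [bits_inj hlt (labN_lt p q) e]
      exact (lab_mem p p.2 q q.2).2.1.resolve_left fun h => hpq (Fin.ext h)

end H73.FiM24
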