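import Cfsg.Agent.H73.FiM24.Coords
import Cfsg.Agent.H16.Fi24.Class
import Cfsg.Agent.H59.Fischer.NormDvd

/-!
In every outer coset exactly one small orbit of translations consists of non-conjugates of the central
involution.
-/

set_option autoImplicit false
set_option maxRecDepth 100000

namespace H73.FiM24

open H16.Fi24 H59.Fi24

theorem lab_msk : ∀ w < 128, (w % 64 = 0 → (msk 0 0).testBit w = false) ∧
    (w % 64 ≠ 0 → ((msk 0 0).testBit w = true ↔ lab (dec (uval w)) = 2)) := by decide +kernel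

theorem small_disjoint : ∀ m < 15,
    (((orb m 0).map fun t => el t % 128) ++ (orb m 1).map fun t => el t % 128).Nodup := by decide +kernel

theorem kp_inj : ∀ a < 16, ∀ b < 16, kp 4 a = kp 4 b → a = b := by decide +kernel

theorem kp_one : kp 4 0 = one := by decide +kernel

theorem block_xor : ∀ a < 16, ∀ w < 128, a <<< 7 ^^^ w = 128 * a + w := by decide +kernel

theorem sgn_lt (e a : ℕ) : sgn e a < 2 := by unfold sgn; split <;> omega

/-- Counting by blocks. -/
theorem count_blocks (p : ℕ → Prop) [DecidablePred p] (n : ℕ) :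
    Nat.count p (128 * n) = ∑ a ∈ Finset.range n, Nat.count (fun w => p (128 * a + w)) 128 := by
  induction n with
  | zero => simp
  | succ n ih => rw [Nat.mul_succ, Nat.count_add, ih, Finset.sum_range_succ]

/-- Every element of the group of order sixteen but one is carried to any other by the normalizer. -/
theorem NA_transitive {p q : Equiv.Perm W} (hp : p ∈ AA) (hq : q ∈ AA) (hp1 : p ≠ 1) (hq1 : q ≠ 1) :
    ∃ g ∈ NA, g * p * g⁻¹ = q := by
  obtain ⟨a1, ha1, -, hka1⟩ := exists_four certA (k := LA.getD 1 0) (getD_mem (by decide))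
  have htrans : ∀ a, 1 ≤ a → a < 16 → ∀ p ∈ AA, key p = LA.getD a 0 → ∃ g ∈ NA, g * a1 * g⁻¹ = p := by
    intro a
    induction hd : (ntree.getD a (0, 0, 0)).2.2 using Nat.strong_induction_on generalizing a with
    | _ d ih =>
      intro h1 h16 p hp hk
      rcases ntree_ok a h16 with h | ⟨hi, hp16, hp0, hdep, hperm⟩
      · obtain rfl : a = 1 := le_antisymm h h1
        exact ⟨1, one_mem _, by rw [one_mul, inv_one, mul_one, key_K0_inj hp.1 ha1.1 (hk.trans hka1.symm)]⟩
      · obtain ⟨q, hq, -, hkq⟩ := exists_four certA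
          (k := LA.getD (ntree.getD a (0, 0, 0)).2.1 0) (getD_mem (show _ < LA.length from hp16))
        obtain ⟨g, hg, e'⟩ := ih _ (hd ▸ hdep) _ rfl hp0 hp16 q hq hkq
        obtain ⟨p', hp', hkp', e⟩ := nw_norm hi hp16 hq hkq
        rw [hperm] at hkp'
        refine ⟨wordP (nw.getD (ntree.getD a (0, 0, 0)).1 []) * g,
          mul_mem (mem_NA_of_conj (wordP_mem _) fun b hb => nw_norm_all hi hb) hg, ?_⟩
        rw [key_K0_inj hp.1 hp'.1 (hk.trans hkp'.symm), ← e, ← e']
        group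
  have hone : ∀ {p : Equiv.Perm W}, p ∈ AA → p ≠ 1 → ∃ g ∈ NA, g * a1 * g⁻¹ = p := by
    intro p hp hp1
    rcases LA_index _ hp.2 with h | ⟨a, ha, ha0, e⟩
    · exact absurd ((key_eq_one hp.1).1 h) hp1
    · exact htrans a ha0 ha p hp e.symm
  obtain ⟨g, hg, rfl⟩ := hone hp hp1
  obtain ⟨g', hg', rfl⟩ := hone hq hq1
  exact ⟨g' * g⁻¹, mul_mem hg' (inv_mem hg), by group⟩

universe u

variable {G : Type u} [Group G] [Finite G] {z : G}
  {Q : Subgroup (Subgroup.centralizer ({z} : Set G))} [Q.Normal] {D : Model z Q}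

/-- The elements that are neither trivial nor conjugate to the central involution. -/
def Tp (c : Subgroup.centralizer ({z} : Set G)) : Prop := c ≠ 1 ∧ ¬ IsConj z (c : G)

theorem Tp_conj (h c : Subgroup.centralizer ({z} : Set G)) : Tp (h * c * h⁻¹) ↔ Tp c := by
  have hc : IsConj (c : G) ((h * c * h⁻¹ : Subgroup.centralizer ({z} : Set G)) : G) :=
    isConj_iff.2 ⟨h, by simp⟩
  exact and_congr (not_congr conj_eq_one_iff) (not_congr ⟨fun e => e.trans hc.symm, fun e => e.trans hc⟩)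

namespace Frame

variable (F : Frame D) (hz : orderOf z = 2)

/-- The predicate in coordinates. -/
def Tb (x : ℕ) : Prop := Tp (F.θ x)

include hz

theorem Tb_step {j x : ℕ} (hj : j < 6) (hx : x < 2048) : F.Tb (step j x) ↔ F.Tb x := by
  rw [Tb, Tb, ← F.conj_θ hz hj x hx]
  exact Tp_conj _ _

theorem orbit_const {m c : ℕ} (hm : m < 15) (hc : c < 5) :
    ∀ i < (orb m c).length, F.Tb (el ((orb m c).getD i 0)) ↔ F.Tb (root m c) := by
  intro i
  induction i using Nat.strong_induction_on with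
  | _ i ih =>
    intro hi
    rcases ((orb_ok m hm c hc).2.1 i hi).2 with rfl | ⟨hj, hp, he⟩
    · rfl
    · rw [← he, F.Tb_step hz hj (x := el _) (Nat.mod_lt _ (by norm_num)), ih _ hp (lt_trans hp hi)]

theorem orbit_pos {m c : ℕ} (hm : m < 15) (hc : c < 5) {w : ℕ}
    (hw : w ∈ (orb m c).map fun t => el t % 128) : F.Tb (128 * (m + 1) + w) ↔ F.Tb (root m c) := by
  obtain ⟨t, ht, rfl⟩ := List.mem_map.1 hw
  obtain ⟨i, hi, e⟩ := List.mem_iff_getElem.1 ht
  have e' : (orb m c).getD i 0 = t := by rw [List.getD_eq_getElem _ _ hi]; exact e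
  have h := ((orb_ok m hm c hc).2.1 i hi).1
  have hc' := F.orbit_const hz hm hc i hi
  rw [e'] at h hc'
  rw [← hc']
  have := Nat.div_add_mod (el t) 128
  rw [h] at this
  rw [this]

theorem θ_block {a w : ℕ} (ha : a < 16) (hw : w < 128) :
    D.ρ (F.θ (128 * a + w)) = D.ρ (F.θ (a <<< 7)) := by
  rw [← block_xor a ha w hw, F.θ_mul hz, _root_.map_mul, rho_Q D (F.θ_phi (x := w) hw).1.1, mul_one]

theorem rho_inj {a b : ℕ} (ha : a < 16) (hb : b < 16)
    (e : D.ρ (F.θ (a <<< 7)) = D.ρ (F.θ (b <<< 7))) : a = b :=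
  kp_inj a ha b hb (by
    rw [← (F.key_θ a 4 le_rfl).1, ← (F.key_θ b 4 le_rfl).1]
    exact congrArg key e)

theorem rho_ne_one {a : ℕ} (ha : a < 16) (h0 : a ≠ 0) : D.ρ (F.θ (a <<< 7)) ≠ 1 := fun e =>
  h0 (kp_inj a ha 0 (by norm_num) (by
    rw [← (F.key_θ a 4 le_rfl).1, kp_one, ← key_one]
    exact congrArg key e))

open Classical in
/-- The number of such elements in a coset. -/
noncomputable def cN (a : ℕ) : ℕ := Nat.count (fun w => F.Tb (128 * a + w)) 128

omit hz in
theorem count_eq_ncard (p : ℕ → Prop) [DecidablePred p] (n : ℕ) :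
    Nat.count p n = {x | x < n ∧ p x}.ncard := by
  rw [Nat.count_eq_card_filter_range, ← Set.ncard_coe_finset]
  congr 1
  ext x
  simp

theorem cN_eq (a : ℕ) (ha : a < 16) :
    F.cN a = {c | c ∈ CC D ∧ Tp c ∧ D.ρ c = D.ρ (F.θ (a <<< 7))}.ncard := by
  classical
  rw [cN, count_eq_ncard]
  refine Set.ncard_congr (fun w _ => F.θ (128 * a + w)) ?_ ?_ ?_
  · rintro w ⟨hw, hT⟩
    exact ⟨F.θ_mem _, hT, F.θ_block hz ha hw⟩
  · rintro w w' ⟨hw, -⟩ ⟨hw', -⟩ e
    have := F.θ_inj hz (show 128 * a + w < 2048 by omega) (show 128 * a + w' < 2048 by omega) e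
    omega
  · rintro c ⟨hc, hT, hρ⟩
    obtain ⟨x, hx, rfl⟩ := F.exists_θ hz hc
    have ha' : x / 128 < 16 := by omega
    have hx' := Nat.div_add_mod x 128
    have := F.rho_inj hz ha' ha (by rw [← F.θ_block hz ha' (Nat.mod_lt x (by norm_num)), hx', hρ])
    subst this
    refine ⟨x % 128, ⟨Nat.mod_lt x (by norm_num), ?_⟩, by simp only [hx']⟩
    rw [hx']
    exact hT

theorem cN_const {a b : ℕ} (ha : a < 16) (hb : b < 16) (ha0 : a ≠ 0) (hb0 : b ≠ 0) :
    F.cN a = F.cN b := by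
  rw [F.cN_eq hz a ha, F.cN_eq hz b hb]
  obtain ⟨g, hg, hge⟩ := NA_transitive ((mem_CC D).1 (F.θ_mem (a <<< 7))).1
    ((mem_CC D).1 (F.θ_mem (b <<< 7))).1 (F.rho_ne_one hz ha ha0) (F.rho_ne_one hz hb hb0)
  obtain ⟨h, -, rfl⟩ := D.exists_rho hg.1
  have hN := Subgroup.mem_normalizer_iff.1 (mem_normalizer_CC D (h := h) hg)
  rw [← Set.ncard_image_of_injective _ (MulAut.conj h).injective]
  congr 1
  ext c
  constructor
  · rintro ⟨d, ⟨hd, hT, hρ⟩, rfl⟩
    refine ⟨(hN d).1 hd, (Tp_conj h d).2 hT, ?_⟩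
    rw [MulAut.conj_apply, _root_.map_mul, _root_.map_mul, map_inv, hρ, hge]
  · rintro ⟨hc, hT, hρ⟩
    have hback : h * (h⁻¹ * c * h) * h⁻¹ = c := by group
    refine ⟨h⁻¹ * c * h, ⟨(hN _).2 (by rwa [hback]), (Tp_conj h _).1 (by rwa [hback]), ?_⟩, hback⟩
    rw [_root_.map_mul, _root_.map_mul, map_inv, hρ, ← hge]
    group

theorem Tb_inner (hF : Cfsg.IsOfLargeFischerTypeAt z Q) {w : ℕ} (hw : w < 128) :
    F.Tb w ↔ (msk 0 0).testBit w = true := by
  obtain ⟨hl0, hl1⟩ := lab_msk w hw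
  rcases Nat.lt_or_ge 0 (w % 64) with h | h
  · rw [hl1 (by omega)]
    obtain ⟨hW, hΦ⟩ := F.θ_phi (x := w) hw
    have hne1 : F.θ w ≠ 1 := fun e => by
      have := F.θ_inj hz (show w < 2048 by omega) (show 0 < 2048 by norm_num) (e.trans F.θ_zero.symm)
      omega
    have hnez : ((F.θ w : _) : G) ≠ z := fun e => by
      have := F.θ_inj hz (show w < 2048 by omega) (show 64 < 2048 by norm_num)
        ((Subtype.ext e : F.θ w = zc z).trans F.θ_sixtyfour.symm)
      omega
    have := Fact.mk Nat.prime_two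
    have h2 := D.lab_involution hW.1 (orderOf_eq_prime (by rw [pow_two]; exact Wt_sq D hW) hne1) hnez
    have h3 := (lab_cases (D.Φ (F.θ w))).2.1
    rw [← hΦ]
    constructor
    · rintro ⟨-, hn⟩
      rw [isConj_iff_lab hF D hW.1 hnez] at hn
      omega
    · intro h'
      refine ⟨hne1, fun hc => ?_⟩
      rw [isConj_iff_lab hF D hW.1 hnez] at hc
      omega
  · rw [hl0 (by omega)]
    simp only [Bool.false_eq_true, iff_false]
    rintro ⟨h1, h2⟩
    rcases (show w = 0 ∨ w = 64 by omega) with rfl | rfl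
    · exact h1 F.θ_zero
    · exact h2 (by rw [F.θ_sixtyfour]; exact IsConj.refl z)

theorem total_count (hN : {a : G | a ∈ AG D ∧ a ≠ 1 ∧ ¬ IsConj z a}.ncard = 276)
    [DecidablePred F.Tb] : Nat.count F.Tb 2048 = 276 := by
  rw [count_eq_ncard, ← hN]
  refine Set.ncard_congr (fun x _ => ((F.θ x : _) : G)) ?_ ?_ ?_
  · rintro x ⟨-, h1, h2⟩
    exact ⟨(mem_AG D).2 (F.θ_mem x), fun e => h1 (Subtype.ext e), h2⟩
  · rintro x y ⟨hx, -⟩ ⟨hy, -⟩ e
    exact F.θ_inj hz hx hy (Subtype.ext e)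
  · rintro a ⟨⟨c, hc, rfl⟩, h1, h2⟩
    obtain ⟨x, hx, rfl⟩ := F.exists_θ hz hc
    exact ⟨x, ⟨hx, fun e => h1 (by rw [e]; rfl), h2⟩, rfl⟩

theorem cN_outer (hF : Cfsg.IsOfLargeFischerTypeAt z Q)
    (hN : {a : G | a ∈ AG D ∧ a ≠ 1 ∧ ¬ IsConj z a}.ncard = 276) {a : ℕ} (ha : a < 16) (ha0 : a ≠ 0) :
    F.cN a = 16 := by
  classical
  have h0 : F.cN 0 = 36 := by
    rw [cN, show Nat.count (fun w => F.Tb (128 * 0 + w)) 128 =
      Nat.count (fun w => (msk 0 0).testBit w = true) 128 from ?_]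
    · decide +kernel
    rw [Nat.count_eq_card_filter_range, Nat.count_eq_card_filter_range]
    congr 1
    exact Finset.filter_congr fun w hw => by
      rw [Nat.mul_zero, Nat.zero_add]; exact F.Tb_inner hz hF (Finset.mem_range.1 hw)
  have h := count_blocks F.Tb 16
  rw [show 128 * 16 = 2048 from rfl, F.total_count hz hN] at h
  have hsum : ∑ b ∈ Finset.range 16, Nat.count (fun w => F.Tb (128 * b + w)) 128 =
      ∑ b ∈ Finset.range 16, if b = 0 then 36 else F.cN a := by
    refine Finset.sum_congr rfl fun b hb => ?_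
    rcases eq_or_ne b 0 with rfl | hb0
    · rw [if_pos rfl, ← h0]; rfl
    · rw [if_neg hb0, ← F.cN_const hz (Finset.mem_range.1 hb) ha hb0 ha0]; rfl
  rw [hsum] at h
  simp only [Finset.sum_range_succ, Finset.sum_range_zero] at h
  norm_num at h
  omega

theorem exists_delta (hF : Cfsg.IsOfLargeFischerTypeAt z Q)
    (hN : {a : G | a ∈ AG D ∧ a ≠ 1 ∧ ¬ IsConj z a}.ncard = 276) {m : ℕ} (hm : m < 15) :
    ∃ d < 2, (∀ w < 128, (F.Tb (128 * (m + 1) + w) ↔ (msk (m + 1) d).testBit w = true)) ∧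
      F.Tb (root m d) ∧ ∀ d' < 2, F.Tb (root m d') → d' = d := by
  classical
  have h16 := F.cN_outer hz hF hN (show m + 1 < 16 by omega) (Nat.succ_ne_zero m)
  have hle : ∀ l : List ℕ, l.Nodup → (∀ w ∈ l, w < 128 ∧ F.Tb (128 * (m + 1) + w)) → l.length ≤ 16 := by
    intro l hl h
    rw [← h16, cN, Nat.count_eq_card_filter_range, ← List.toFinset_card_of_nodup hl]
    refine Finset.card_le_card fun w hw => ?_
    obtain ⟨h1, h2⟩ := h w (List.mem_toFinset.1 hw)
    exact Finset.mem_filter.2 ⟨Finset.mem_range.2 h1, h2⟩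
  have hlt : ∀ {c w : ℕ}, w ∈ ((orb m c).map fun t => el t % 128) → w < 128 := by
    intro c w hw
    obtain ⟨t, -, rfl⟩ := List.mem_map.1 hw
    exact Nat.mod_lt _ (by norm_num)
  have hbig : ∀ c < 5, 2 ≤ c → ¬ F.Tb (root m c) := by
    intro c hc hc2 hT
    obtain ⟨hlen, -, hnd⟩ := orb_ok m hm c hc
    have := hle _ hnd fun w hw => ⟨hlt hw, (F.orbit_pos hz hm hc hw).2 hT⟩
    rw [List.length_map, hlen, if_neg (by omega)] at this
    omega
  have hboth : ¬ (F.Tb (root m 0) ∧ F.Tb (root m 1)) := by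
    rintro ⟨h0, h1⟩
    have := hle _ (small_disjoint m hm) fun w hw => by
      rcases List.mem_append.1 hw with h | h
      · exact ⟨hlt h, (F.orbit_pos hz hm (by norm_num) h).2 h0⟩
      · exact ⟨hlt h, (F.orbit_pos hz hm (by norm_num) h).2 h1⟩
    rw [List.length_append, List.length_map, List.length_map, (orb_ok m hm 0 (by norm_num)).1,
      (orb_ok m hm 1 (by norm_num)).1, if_pos (by norm_num)] at this
    norm_num at this
  have hcov : ∀ w < 128, ∃ c < 5, w ∈ (orb m c).map fun t => el t % 128 := by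
    intro w hw
    have h := orb_cover m hm w hw
    simp only [List.any_eq_true, List.mem_range, List.contains_iff_mem] at h
    exact h
  obtain ⟨d, hd, hT⟩ : ∃ d < 2, F.Tb (root m d) := by
    by_contra hn
    push Not at hn
    have : F.cN (m + 1) = 0 := by
      rw [cN, Nat.count_eq_card_filter_range, Finset.card_eq_zero, Finset.filter_eq_empty_iff]
      intro w hw hTw
      obtain ⟨c, hc, hwc⟩ := hcov w (Finset.mem_range.1 hw)
      rw [F.orbit_pos hz hm hc hwc] at hTw
      rcases Nat.lt_or_ge c 2 with h | h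
      · exact hn c h hTw
      · exact hbig c hc h hTw
    omega
  have huniq : ∀ d' < 2, F.Tb (root m d') → d' = d := by
    intro d' hd' hT'
    interval_cases d <;> interval_cases d' <;> first | rfl | (exfalso; exact hboth ⟨‹_›, ‹_›⟩)
  refine ⟨d, hd, fun w hw => ?_, hT, huniq⟩
  rw [msk_orb m hm d hd w hw, List.contains_iff_mem]
  constructor
  · intro hTw
    obtain ⟨c, hc, hwc⟩ := hcov w hw
    rw [F.orbit_pos hz hm hc hwc] at hTw
    rcases Nat.lt_or_ge c 2 with h | h
    · rwa [← huniq c h hTw]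
    · exact absurd hTw (hbig c hc h)
  · intro hwd
    exact (F.orbit_pos hz hm (by omega) hwd).2 hT

end Frame

/-- Coordinates with a normalised choice of signs describing the non-conjugates. -/
theorem exists_signs (hF : Cfsg.IsOfLargeFischerTypeAt z Q) (D : Model z Q)
    (hN : {a : G | a ∈ AG D ∧ a ≠ 1 ∧ ¬ IsConj z a}.ncard = 276) :
    ∃ F : Frame D, ∃ e < 2048, ∀ x < 2048, (F.Tb x ↔ memT e x = true) := by
  classical
  have hz := hF.1.1
  obtain ⟨F⟩ := nonempty_frame D hz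
  have hroot : ∀ k < 4, root (2 ^ k - 1) 0 = 1 <<< (7 + k) ∧
      root (2 ^ k - 1) 1 = 1 <<< (7 + k) ^^^ 64 ∧ 2 ^ k - 1 < 15 := by decide +kernel
  set F' := F.flip fun k => decide (¬ F.Tb (1 <<< (7 + k))) with hF'
  have hbasis : ∀ k < 4, F'.Tb (1 <<< (7 + k)) := by
    intro k hk
    obtain ⟨h0, h1, hm⟩ := hroot k hk
    obtain ⟨d, hd, -, hT, -⟩ := F.exists_delta hz hF hN hm
    have he : F'.θ (1 <<< (7 + k)) =
        if F.Tb (1 <<< (7 + k)) then F.θ (1 <<< (7 + k)) else F.θ (1 <<< (7 + k) ^^^ 64) := by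
      rw [F.θ_mul hz, F.θ_sixtyfour]
      simp only [Frame.θ, th_bit _ 11 (show 7 + k < 11 by omega)]
      simp only [hF', Frame.flip, Nat.add_sub_cancel_left, decide_eq_true_eq]
      by_cases h : F.Tb (1 <<< (7 + k))
      · rw [if_neg (by simp [h]), if_pos h]
      · rw [if_pos ⟨by omega, h⟩, if_neg h]
    rw [Frame.Tb, he]
    by_cases h : F.Tb (1 <<< (7 + k))
    · rw [if_pos h]; exact h
    · rw [if_neg h]
      interval_cases d
      · exact absurd (h0 ▸ hT) h
      · exact h1 ▸ hT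
  choose d hd hdw hdT hdu using fun m : Fin 15 => F'.exists_delta hz hF hN m.2
  let D' : ℕ → ℕ := fun a => if h : 1 ≤ a ∧ a < 16 then d ⟨a - 1, by omega⟩ else 0
  have hD' : ∀ a, D' a < 2 := fun a => by simp only [D']; split <;> first | exact hd _ | norm_num
  have hb0 : ∀ k < 4, D' (2 ^ k) = 0 := by
    intro k hk
    obtain ⟨h0, -, hm⟩ := hroot k hk
    have hp := Nat.two_pow_pos k
    simp only [D', dif_pos (show 1 ≤ 2 ^ k ∧ 2 ^ k < 16 by omega)]
    exact (hdu ⟨2 ^ k - 1, hm⟩ 0 (by norm_num) (h0.symm ▸ hbasis k hk)).symm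
  refine ⟨F', D' 3 + 2 * D' 5 + 4 * D' 6 + 8 * D' 7 + 16 * D' 9 + 32 * D' 10 + 64 * D' 11 + 128 * D' 12 +
    256 * D' 13 + 512 * D' 14 + 1024 * D' 15, ?_, fun x hx => ?_⟩
  · have := hD' 3; have := hD' 5; have := hD' 6; have := hD' 7; have := hD' 9; have := hD' 10
    have := hD' 11; have := hD' 12; have := hD' 13; have := hD' 14; have := hD' 15
    omega
  set e := D' 3 + 2 * D' 5 + 4 * D' 6 + 8 * D' 7 + 16 * D' 9 + 32 * D' 10 + 64 * D' 11 + 128 * D' 12 +
    256 * D' 13 + 512 * D' 14 + 1024 * D' 15 with he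
  have hsgn : ∀ a < 16, 1 ≤ a → sgn e a = D' a := by
    intro a ha ha1
    have := hb0 0 (by norm_num); have := hb0 1 (by norm_num); have := hb0 2 (by norm_num)
    have := hb0 3 (by norm_num)
    have := hD' 3; have := hD' 5; have := hD' 6; have := hD' 7; have := hD' 9; have := hD' 10
    have := hD' 11; have := hD' 12; have := hD' 13; have := hD' 14; have := hD' 15
    interval_cases a <;> norm_num [sgn, Nat.shiftRight_eq_div_pow] at * <;> omega
  have hx' := Nat.div_add_mod x 128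
  have hw : x % 128 < 128 := Nat.mod_lt _ (by norm_num)
  rw [memT]
  rcases Nat.eq_zero_or_pos (x / 128) with h | h
  · rw [h, show sgn e 0 = 0 from rfl, show x % 128 = x by omega]
    exact F'.Tb_inner hz hF (by omega)
  · rw [hsgn _ (by omega) h]
    simp only [D', dif_pos (show 1 ≤ x / 128 ∧ x / 128 < 16 by omega)]
    have := hdw ⟨x / 128 - 1, by omega⟩ (x % 128) hw
    simp only [show x / 128 - 1 + 1 = x / 128 by omega, hx'] at this
    exact this

end H73.FiM24
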